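import Cfsg.Agent.Fusion.Balance.Site
import Cfsg.Agent.Fusion.Product.Extend
import Cfsg.Agent.Fusion.InvarianceEquiv

/-!
The generated maps of trivial label are invariant in the big system.
-/

set_option autoImplicit false
set_option linter.unusedSectionVars false
set_option linter.style.haveILetI false
set_option maxHeartbeats 400000

namespace Cfsg.Lib.Fusion.Product

open Cfsg Cfsg.FusionSystem Cfsg.Lib.Fusion

universe u

variable {Ω : Type u} [Group Ω] {S T : Subgroup Ω} {F : FusionSystem S} {E : FusionSystem T}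
  {p : ℕ} [Finite S] [Fact p.Prime]

/-- The maps generated by the generators and the conjugations from `T`. -/
inductive InnerGen (F : FusionSystem S) (E : FusionSystem T) (p : ℕ) :
    Subgroup Ω → (Ω → Ω) → Prop
  | prim (P : Subgroup Ω) (γ : MulAut P) : IsPrim F E p P γ → InnerGen F E p P (autFun γ)
  | conj (P : Subgroup Ω) (t : Ω) : P ≤ S → t ∈ T → InnerGen F E p P (scF t)
  | comp (P Q : Subgroup Ω) (f g : Ω → Ω) : InnerGen F E p P f → InnerGen F E p Q g →
      (∀ x ∈ P, f x ∈ Q) → InnerGen F E p P (g ∘ f)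
  | weak (P R : Subgroup Ω) (f f' : Ω → Ω) : InnerGen F E p P f → R ≤ P →
      (∀ x ∈ R, f' x = f x) → InnerGen F E p R f'

namespace InnerGen

variable {P R : Subgroup Ω} {f g : Ω → Ω}

theorem mono (h : InnerGen F E p P f) (hR : R ≤ P) : InnerGen F E p R f :=
  .weak P R f f h hR fun _ _ => rfl

theorem congr (h : InnerGen F E p P f) (e : ∀ x ∈ P, g x = f x) : InnerGen F E p P g :=
  .weak P P f g h le_rfl e

theorem id' (hP : P ≤ S) : InnerGen F E p P id :=
  (InnerGen.conj P 1 hP T.one_mem).congr fun x _ => by simp [scF]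

theorem gen (hD : Setup F E p) (h : InnerGen F E p P f) : Gen F E p P f 1 := by
  induction h with
  | prim P γ hγ => exact Gen.prim P γ hγ
  | conj P t hP ht =>
    exact (Gen.conj P t hP (hD.le ht)).relabel (by simpa using T.inv_mem ht)
  | comp P Q f g _ _ hfQ ih ih' => exact (one_mul (1 : Ω)) ▸ Gen.comp P Q f g 1 1 ih ih' hfQ
  | weak P R f f' _ hR e ih => exact (ih.mono hR).congr e

theorem isMap (hD : Setup F E p) (h : InnerGen F E p P f) : IsMap F P f :=
  ((h.gen hD).isMap hD).1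

theorem shift (hD : Setup F E p) (h : InnerGen F E p P f) {x : Ω} (hx : x ∈ P) :
    x⁻¹ * f x ∈ T := by
  simpa using (h.gen hD).shift hD x hx

theorem mem_of_shift (hD : Setup F E p) (h : InnerGen F E p P f) {W : Subgroup Ω} (hTW : T ≤ W)
    {x : Ω} (hx : x ∈ P) (hxW : x ∈ W) : f x ∈ W := by
  have := W.mul_mem hxW (hTW (h.shift hD hx))
  rwa [mul_inv_cancel_left] at this

theorem exists_inv (hD : Setup F E p) (h : InnerGen F E p P f) :
    ∃ g, InnerGen F E p (img P f) g ∧ ∀ x ∈ P, g (f x) = x := by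
  induction h with
  | prim P γ hγ =>
    refine ⟨autFun γ⁻¹, ?_, fun x hx => autFun_inv_apply' γ hx⟩
    rw [img_autFun]
    exact .prim _ _ hγ.inv
  | conj P t hP ht =>
    exact ⟨scF t⁻¹, .conj _ _ ((isMap_conj (F := F) hP (hD.le ht)).img_le) (T.inv_mem ht),
      fun x _ => by simp [scF, mul_assoc]⟩
  | comp P Q f g hf hg hfQ ih ih' =>
    obtain ⟨a, ha, ea⟩ := ih
    obtain ⟨b, hb, eb⟩ := ih'
    have hle : img P (g ∘ f) ≤ img Q g :=
      IsMap.img_le_iff.mpr fun x hx => IsMap.apply_mem_img (hfQ x hx)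
    have hm := (hf.isMap hD).comp (hg.isMap hD) hfQ
    refine ⟨a ∘ b, .comp _ _ _ _ (hb.mono hle) ha fun y hy => ?_, fun x hx => ?_⟩
    · obtain ⟨x, hx, rfl⟩ := hm.mem_img.mp hy
      rw [Function.comp_apply, eb _ (hfQ x hx)]
      exact IsMap.apply_mem_img hx
    · show a (b (g (f x))) = x
      rw [eb _ (hfQ x hx), ea x hx]
  | weak P R f f' _ hR e ih =>
    obtain ⟨g, hg, eg⟩ := ih
    refine ⟨g, hg.mono ?_, fun x hx => by rw [e x hx, eg x (hR hx)]⟩
    rw [img_congr e]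
    exact img_mono hR f

/-- Transport along a map defined on a subgroup containing `T`. -/
theorem transport (hD : Setup F E p) {W : Subgroup Ω} {n : Ω → Ω} (hn : IsMap F W n)
    (hTW : T ≤ W) (h : InnerGen F E p P f) :
    ∀ R, R ≤ P → R ≤ W → ∀ g : Ω → Ω, (∀ x ∈ R, g (n x) = n (f x)) →
      InnerGen F E p (img R n) g := by
  induction h with
  | prim P γ hγ =>
    intro R hRP hRW g hg
    set P' := P ⊓ W
    have hst : ∀ x ∈ P', autFun γ x ∈ P' := fun x hx =>
      ⟨autFun_mem γ hx.1, (InnerGen.prim P γ hγ).mem_of_shift hD hTW hx.1 hx.2⟩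
    have hPT : P' ⊓ T = P ⊓ T :=
      le_antisymm (inf_le_inf_right T inf_le_left) (le_inf (le_inf inf_le_left
        (inf_le_right.trans hTW)) inf_le_right)
    obtain ⟨β, hβ, eβ⟩ := hγ.restrict inf_le_left hst (hPT.symm ▸ hγ.centric)
    have hn' := hn.mono (inf_le_right : P' ≤ W)
    refine .weak _ _ _ _ (.prim _ _ (hβ.transport hD hn' rfl)) (img_mono (le_inf hRP hRW) n) ?_
    intro y hy
    obtain ⟨x, hx, rfl⟩ := (hn.mono hRW).mem_img.mp hy
    rw [congr_equiv_spec hn' rfl β ⟨hRP hx, hRW hx⟩, eβ x ⟨hRP hx, hRW hx⟩, hg x hx]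
  | conj P t hP ht =>
    intro R _ hRW g hg
    refine (InnerGen.conj _ (n t) ((hn.mono hRW).img_le)
      (stronglyClosed_apply hD.sc hn (hTW ht) ht)).congr fun y hy => ?_
    obtain ⟨x, hx, rfl⟩ := (hn.mono hRW).mem_img.mp hy
    rw [hg x hx]
    exact hn.map_conj (hTW ht) (hRW hx)
  | comp P Q f₁ f₂ h₁ _ hfQ ih₁ ih₂ =>
    intro R hRP hRW g hg
    obtain ⟨k, hk, -, hkl, -⟩ := hn.exists_inv
    have hm₁ := (h₁.isMap hD).mono hRP
    have hW₁ : img R f₁ ≤ W :=
      IsMap.img_le_iff.mpr fun x hx => h₁.mem_of_shift hD hTW (hRP hx) (hRW hx)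
    have hQ₁ : img R f₁ ≤ Q := IsMap.img_le_iff.mpr fun x hx => hfQ x (hRP hx)
    have g₁ := ih₁ R hRP hRW (fun y => n (f₁ (k y))) fun x hx => by rw [hkl x (hRW hx)]
    have g₂ := ih₂ (img R f₁) hQ₁ hW₁ (fun y => n (f₂ (k y))) fun x hx => by rw [hkl x (hW₁ hx)]
    refine (InnerGen.comp _ _ _ _ g₁ g₂ fun y hy => ?_).congr fun y hy => ?_
    · obtain ⟨x, hx, rfl⟩ := (hn.mono hRW).mem_img.mp hy
      rw [hkl x (hRW hx)]
      exact IsMap.apply_mem_img (IsMap.apply_mem_img hx)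
    · obtain ⟨x, hx, rfl⟩ := (hn.mono hRW).mem_img.mp hy
      show _ = n (f₂ (k (n (f₁ (k (n x))))))
      rw [hkl x (hRW hx), hkl _ (hW₁ (IsMap.apply_mem_img hx)), hg x hx]
      rfl
  | weak P P' f f' _ hP' e ih =>
    intro R hR hRW g hg
    exact ih R (hR.trans hP') hRW g fun x hx => by rw [hg x hx, e x (hR hx)]

end InnerGen

/-- A generated map is its label after an inner one. -/
theorem Gen.inner (hD : Setup F E p) {P : Subgroup Ω} {f : Ω → Ω} {s : Ω} (h : Gen F E p P f s) :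
    InnerGen F E p P (fun x => s⁻¹ * f x * s) := by
  induction h with
  | conj P s hP _ => exact (InnerGen.id' hP).congr fun x _ => by simp [scF, mul_assoc]
  | prim P γ hγ => exact (InnerGen.prim P γ hγ).congr fun x _ => by simp
  | comp P Q f g s t hf hg hfQ ih ih' =>
    obtain ⟨hfm, hs⟩ := hf.isMap hD
    have hconj : IsMap F S (scF s⁻¹) := isMap_conj le_rfl (S.inv_mem hs)
    have hQS : Q ≤ S := (hg.isMap hD).1.le
    have h2 := ih'.transport hD hconj hD.le Q le_rfl hQS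
      (fun y => s⁻¹ * (t⁻¹ * g (s * y * s⁻¹) * t) * s) fun x _ => by simp [scF, mul_assoc]
    refine (InnerGen.comp _ _ _ _ ih h2 fun x hx => ?_).congr fun x _ => ?_
    · rw [mem_img_scF, show s⁻¹⁻¹ * (s⁻¹ * f x * s) * s⁻¹ = f x by group]
      exact hfQ x hx
    · simp only [Function.comp_apply]
      rw [show s * (s⁻¹ * f x * s) * s⁻¹ = f x by group]
      group
  | weak P R f f' s s' hf hR e hss ih =>
    obtain ⟨hfm, hs⟩ := hf.isMap hD
    have hc := InnerGen.conj (F := F) (E := E) (p := p) S (s⁻¹ * s')⁻¹ le_rfl (T.inv_mem hss)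
    refine (InnerGen.comp _ _ _ _ (ih.mono hR) hc
      fun x hx => (ih.isMap hD).mem_S (hR hx)).congr fun x hx => ?_
    simp only [Function.comp_apply, scF]
    rw [e x hx]
    group

theorem gen_one_iff (hD : Setup F E p) {P : Subgroup Ω} {f : Ω → Ω} :
    Gen F E p P f 1 ↔ InnerGen F E p P f :=
  ⟨fun h => (h.inner hD).congr fun x _ => by simp, fun h => h.gen hD⟩

/-- A map which is an inner one followed by a map normalizing `T`. -/
def Frat (F : FusionSystem S) (E : FusionSystem T) (p : ℕ) (P : Subgroup Ω) (f : Ω → Ω) : Prop :=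
  ∃ π, InnerGen F E p P π ∧ ∃ n, IsMap F (P ⊔ T) n ∧ ∀ x ∈ P, f x = n (π x)

theorem img_sup_T (hD : Setup F E p) {P : Subgroup Ω} {f π n : Ω → Ω} (hπ : InnerGen F E p P π)
    (hn : IsMap F (P ⊔ T) n) (hf : IsMap F P f) (e : ∀ x ∈ P, f x = n (π x)) :
    img (P ⊔ T) n = img P f ⊔ T := by
  haveI := finite_of_le hD.le
  have hnT : img T n = T := img_eq_of_apply hn le_sup_right fun x hx =>
    stronglyClosed_apply hD.sc hn (Subgroup.mem_sup_right hx) hx
  have hxT : ∀ x ∈ P, n (x⁻¹ * π x) ∈ T := fun x hx =>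
    stronglyClosed_apply hD.sc hn (Subgroup.mem_sup_right (hπ.shift hD hx)) (hπ.shift hD hx)
  have he : ∀ x ∈ P, f x = n x * n (x⁻¹ * π x) := fun x hx => by
    rw [← hn.map_mul (Subgroup.mem_sup_left hx) (Subgroup.mem_sup_right (hπ.shift hD hx)),
      mul_inv_cancel_left, e x hx]
  rw [hn.img_sup, hnT]
  refine le_antisymm (sup_le (IsMap.img_le_iff.mpr fun x hx => ?_) le_sup_right)
    (sup_le (IsMap.img_le_iff.mpr fun x hx => ?_) le_sup_right)
  · rw [show n x = f x * (n (x⁻¹ * π x))⁻¹ by rw [he x hx, mul_inv_cancel_right]]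
    exact Subgroup.mul_mem _ (Subgroup.mem_sup_left (IsMap.apply_mem_img hx))
      (Subgroup.mem_sup_right (T.inv_mem (hxT x hx)))
  · rw [he x hx]
    exact Subgroup.mul_mem _ (Subgroup.mem_sup_left (IsMap.apply_mem_img hx))
      (Subgroup.mem_sup_right (hxT x hx))

set_option maxHeartbeats 800000 in
/-- The maps so decomposed form a map class. -/
theorem isMapClass_frat (hD : Setup F E p) : IsMapClass F (Frat F E p) where
  conj P g hP hg := ⟨id, InnerGen.id' hP, scF g, isMap_conj (sup_le hP hD.le) hg, fun _ _ => rfl⟩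
  congr P f f' _ e h := by
    obtain ⟨π, hπ, n, hn, he⟩ := h
    exact ⟨π, hπ, n, hn, fun x hx => (e x hx).trans (he x hx)⟩
  mono P R f _ hR h := by
    obtain ⟨π, hπ, n, hn, he⟩ := h
    exact ⟨π, hπ.mono hR, n, hn.mono (sup_le_sup_right hR T), fun x hx => he x (hR hx)⟩
  comp P Q f g hf hg hfQ h h' := by
    obtain ⟨π, hπ, n, hn, he⟩ := h
    obtain ⟨π', hπ', n', hn', he'⟩ := h'
    have hW := img_sup_T hD hπ hn hf he
    obtain ⟨k, hk, hki, hkl, hkr⟩ := hn.exists_inv
    have hle : img P f ≤ Q := IsMap.img_le_iff.mpr hfQ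
    have hleW : img P f ≤ img (P ⊔ T) n := hW ▸ le_sup_left
    have hTW : T ≤ img (P ⊔ T) n := hW ▸ le_sup_right
    have hπP : ∀ x ∈ P, π x ∈ P ⊔ T := fun x hx =>
      hπ.mem_of_shift hD le_sup_right hx (Subgroup.mem_sup_left hx)
    have hπ'W : ∀ x ∈ P, π' (f x) ∈ img (P ⊔ T) n := fun x hx =>
      hπ'.mem_of_shift hD hTW (hfQ x hx) (hleW (IsMap.apply_mem_img hx))
    have ht := hπ'.transport hD hk hTW (img P f) hle hleW
      (fun z => k (π' (n z))) fun y hy => by rw [hkr y (hleW hy)]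
    have hmem : ∀ x ∈ P, π x ∈ img (img P f) k := fun x hx => by
      rw [← hkl _ (hπP x hx), ← he x hx]
      exact IsMap.apply_mem_img (IsMap.apply_mem_img hx)
    refine ⟨_, InnerGen.comp _ _ _ _ hπ ht hmem, n' ∘ n,
      hn.comp hn' fun z hz => ?_, fun x hx => ?_⟩
    · have h1 : n z ∈ img (P ⊔ T) n := IsMap.apply_mem_img hz
      rw [hW] at h1
      exact (sup_le_sup_right hle T : img P f ⊔ T ≤ Q ⊔ T) h1
    · show g (f x) = n' (n (k (π' (n (π x)))))
      rw [← he x hx, hkr _ (hπ'W x hx), he' _ (hfQ x hx)]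
  inv P f g hf hg hgl h := by
    obtain ⟨π, hπ, n, hn, he⟩ := h
    obtain ⟨π₁, hπ₁, eπ⟩ := hπ.exists_inv hD
    have hW := img_sup_T hD hπ hn hf he
    obtain ⟨k, hk, hki, hkl, hkr⟩ := hn.exists_inv
    have hπP : img P π ≤ P ⊔ T := IsMap.img_le_iff.mpr fun x hx =>
      hπ.mem_of_shift hD le_sup_right hx (Subgroup.mem_sup_left hx)
    have ht := hπ₁.transport hD hn le_sup_right (img P π) le_rfl hπP
      (fun y => n (π₁ (k y))) fun x hx => by rw [hkl x (hπP hx)]
    have hii : img (img P π) n = img P f := by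
      rw [← img_comp (hπ.isMap hD) (hn.mono hπP)]
      exact (img_congr he).symm
    rw [hii] at ht
    refine ⟨_, ht, k, hW ▸ hk, fun y hy => ?_⟩
    obtain ⟨x, hx, rfl⟩ := hf.mem_img.mp hy
    show g (f x) = k (n (π₁ (k (f x))))
    rw [hgl x hx, he x hx, hkl _ (hπP (IsMap.apply_mem_img hx)), eπ x hx,
      hkl x (Subgroup.mem_sup_left hx)]

/-- The automorphisms shifting inside `T` whose restriction lies in the subsystem. -/
def relAut (F : FusionSystem S) (E : FusionSystem T) (R : Subgroup Ω) (hRT : R ≤ S) :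
    Subgroup (MulAut R) where
  carrier := {β | β ∈ F.autGroup R ∧ (∀ x ∈ R, x⁻¹ * autFun β x ∈ T) ∧
    IsMap E (R ⊓ T) (autFun β)}
  one_mem' := ⟨Subgroup.one_mem _, fun x hx => by rw [autFun_one hx]; simp,
    (isMap_id inf_le_right).congr fun x hx => autFun_one hx.1⟩
  mul_mem' := by
    rintro α β ⟨ha, ha1, ha2⟩ ⟨hb, hb1, hb2⟩
    refine ⟨Subgroup.mul_mem _ ha hb, fun x hx => ?_, ?_⟩
    · rw [autFun_mul _ _ hx]
      have := T.mul_mem (hb1 x hx) (ha1 _ (autFun_mem β hx))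
      convert this using 1
      group
    · exact (hb2.comp ha2 fun x hx => ⟨autFun_mem β hx.1, hb2.mem_S hx⟩).congr
        fun x hx => autFun_mul _ _ hx.1
  inv_mem' := by
    rintro α ⟨ha, ha1, ha2⟩
    refine ⟨Subgroup.inv_mem _ ha, fun x hx => ?_, ?_⟩
    · have h := ha1 _ (autFun_mem α⁻¹ hx)
      rw [autFun_inv_apply α hx] at h
      simpa using T.inv_mem h
    · haveI := finite_of_le hRT
      haveI : Finite (MulAut R) := NormCent.finite_mulAut R
      obtain ⟨n, hn⟩ : ∃ n : ℕ, α⁻¹ = α ^ n := by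
        obtain ⟨n, hn, -⟩ : ∃ n : ℕ, α ^ n = α⁻¹ ∧ True :=
          ⟨orderOf α - 1, eq_inv_of_mul_eq_one_left (by
            rw [← pow_succ, Nat.sub_add_cancel (orderOf_pos α), pow_orderOf_eq_one]), trivial⟩
        exact ⟨n, hn.symm⟩
      rw [hn]
      clear hn
      induction n with
      | zero => exact (isMap_id inf_le_right).congr fun x hx => by rw [pow_zero, autFun_one hx.1]; rfl
      | succ n ih =>
        exact (ha2.comp ih fun x hx => ⟨autFun_mem α hx.1, ha2.mem_S hx⟩).congr fun x hx => by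
          rw [pow_succ, autFun_mul _ _ hx.1]
          rfl

/-- Frattini decomposition of every map. -/
theorem frat (hD : Setup F E p) {P : Subgroup Ω} {f : Ω → Ω} (hf : IsMap F P f) :
    Frat F E p P f := by
  have hcls := isMapClass_frat hD
  refine alperin_radical hD.grp hD.sat hcls (fun g hg => ?_) (fun R _ hRn hRc hRr hIH α hα => ?_) hf
  · exact ⟨id, InnerGen.id' le_rfl, g, by rwa [sup_eq_left.mpr hD.le], fun _ _ => rfl⟩
  have hRS := hRn.1
  by_cases hTR : T ≤ R
  · exact ⟨id, InnerGen.id' hRS, autFun α,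
      by rw [sup_eq_left.mpr hTR]; exact (isMap_autFun hRS).mpr hα, fun _ _ => rfl⟩
  haveI := finite_of_le hRS
  haveI := finite_of_le hD.le
  have hc := meet_centric hD.grp hD.sat hD.inv hRc hRr
  set U := R ⊓ T with hU
  -- an element of `T` normalizing outside
  have hlt : R < R ⊔ T := lt_of_le_of_ne le_sup_left fun h => hTR (h ▸ le_sup_right)
  obtain ⟨v, hv, hvR⟩ := SetLike.exists_of_lt
    (lt_inf_normalizer hD.grp hlt (sup_le hRS hD.le))
  have hRT : R ≤ Subgroup.normalizer (T : Set Ω) := fun x hx => hD.normalizes (hRS hx)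
  have hv1 : v ∈ ((R ⊔ T : Subgroup Ω) : Set Ω) := hv.1
  rw [Subgroup.coe_mul_of_left_le_normalizer_right R T hRT] at hv1
  obtain ⟨q, hq, t, ht, rfl⟩ := hv1
  have htR : t ∉ R := fun h => hvR (R.mul_mem hq h)
  have htn : t ∈ Subgroup.normalizer (R : Set Ω) := by
    have := Subgroup.mul_mem _ (Subgroup.inv_mem _ (Subgroup.le_normalizer hq)) hv.2
    rwa [inv_mul_cancel_left] at this
  have hst : ∀ β ∈ F.autGroup R, ∀ x ∈ U, autFun β x ∈ U := fun β hβ x hx =>
    ⟨autFun_mem β hx.1, stronglyClosed_apply hD.sc ((isMap_autFun hRS).mpr hβ) hx.1 hx.2⟩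
  refine Balance.site_split hD.grp hD.sat hcls hRn (B := relAut F E R hRS) (fun _ h => h.1)
    (fun a ha β hβ => ⟨Subgroup.mul_mem _ (Subgroup.mul_mem _ ha hβ.1) (Subgroup.inv_mem _ ha),
      fun x hx => ?_, ?_⟩)
    (fun β hβ hcop => ⟨autFun β, InnerGen.prim R β ⟨hRS, hβ.1, hcop, hβ.2.1, hc, hβ.2.2⟩, id,
      isMap_id (sup_le hRS hD.le), fun _ _ => rfl⟩)
    (hD.le ht) htn htR ⟨autInducedBy_le hRS (conjAut_mem_autInducedBy htn (hD.le ht)),
      fun x hx => ?_, ?_⟩ hIH α hα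
  · set y := autFun a⁻¹ x
    have hy : y ∈ R := autFun_mem _ hx
    have hm := (isMap_autFun hRS).mpr ha
    have h1 := stronglyClosed_apply hD.sc hm (R.mul_mem (R.inv_mem hy) (autFun_mem β hy))
      (hβ.2.1 y hy)
    rw [hm.map_mul (R.inv_mem hy) (autFun_mem β hy), hm.map_inv hy,
      autFun_inv_apply a hx] at h1
    rwa [autFun_mul _ _ hx, autFun_mul _ _ (autFun_mem _ hx)]
  · have h1 := strongInv_of_invariant hD.inv U U le_rfl inf_le_right _ hβ.2.2
      (fun x hx => ⟨autFun_mem β hx.1, hβ.2.2.mem_S hx⟩) _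
      (((isMap_autFun hRS).mpr ha).mono inf_le_left) (autFun (a * β * a⁻¹)) fun x hx => by
        rw [← autFun_mul _ a hx.1, inv_mul_cancel_right, autFun_mul _ _ hx.1]
    rwa [img_eq_of_apply ((isMap_autFun hRS).mpr ha) inf_le_left (hst a ha)] at h1
  · rw [autFun_apply_mem _ hx, conjAut_apply,
      show x⁻¹ * (t * x * t⁻¹) = (x⁻¹ * t * x) * t⁻¹ by group]
    exact T.mul_mem (hD.conjT' (hRS hx) ht) (T.inv_mem ht)
  · exact (isMap_conj inf_le_right ht).congr fun x hx => by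
      rw [autFun_apply_mem _ hx.1, conjAut_apply]

/-- The inner maps are strongly invariant. -/
theorem InnerGen.conj_map (hD : Setup F E p) {P R : Subgroup Ω} {h π : Ω → Ω}
    (hh : IsMap F P h) (hπ : InnerGen F E p R π) (hRP : R ≤ P) (hπP : ∀ x ∈ R, π x ∈ P)
    {g : Ω → Ω} (hg : ∀ x ∈ R, g (h x) = h (π x)) : InnerGen F E p (img R h) g := by
  obtain ⟨π₀, hπ₀, n, hn, he⟩ := frat hD hh
  obtain ⟨σ, hσ, eσ⟩ := (hπ₀.mono hRP).exists_inv hD
  have hσR : ∀ y ∈ img R π₀, σ y ∈ R := fun y hy => by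
    obtain ⟨x, hx, rfl⟩ := ((hπ₀.isMap hD).mono hRP).mem_img.mp hy
    rwa [eσ x hx]
  have h1 := InnerGen.comp _ _ _ _ (InnerGen.comp _ _ _ _ hσ hπ hσR) hπ₀
    fun y hy => hπP _ (hσR y hy)
  have hW : img R π₀ ≤ P ⊔ T := IsMap.img_le_iff.mpr fun x hx =>
    hπ₀.mem_of_shift hD le_sup_right (hRP hx) (Subgroup.mem_sup_left (hRP hx))
  have h2 := h1.transport hD hn le_sup_right (img R π₀) le_rfl hW g fun y hy => by
    obtain ⟨x, hx, rfl⟩ := ((hπ₀.isMap hD).mono hRP).mem_img.mp hy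
    show g (n (π₀ x)) = n (π₀ (π (σ (π₀ x))))
    rw [eσ x hx, ← he x (hRP hx), hg x hx, he _ (hπP x hx)]
  have hi : img (img R π₀) n = img R h := by
    rw [← img_comp ((hπ₀.isMap hD).mono hRP) (hn.mono hW)]
    exact (img_congr fun x hx => he x (hRP hx)).symm
  rwa [hi] at h2

end Cfsg.Lib.Fusion.Product
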