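import Cfsg.Agent.Fusion.Product.Extend
import Cfsg.Agent.Fusion.Dichotomy
import Cfsg.Agent.Fusion.NormalCentralizer.Commutator
import Cfsg.Agent.Fusion.Small.Restriction

/-!
An automorphism of order prime to `p` fixing `X` and its centralizer in a strongly closed subgroup
extends to fix that subgroup.
-/

set_option autoImplicit false
set_option linter.unusedSectionVars false
set_option linter.style.haveILetI false
set_option maxHeartbeats 400000

namespace Cfsg.Lib.Fusion.Balance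

open Cfsg Cfsg.FusionSystem Cfsg.Lib.Fusion

universe u

variable {Ω : Type u} [Group Ω] {S T : Subgroup Ω} {F : FusionSystem S} {p : ℕ}
  [Finite S] [Fact p.Prime]

/-- The centralizer in `T` is as large as possible in the class. -/
def MaxCent (F : FusionSystem S) (T X : Subgroup Ω) : Prop :=
  ∀ X', F.IsConj X X' → Nat.card (centralizerIn T X') ≤ Nat.card (centralizerIn T X)

theorem maxCent_of_fullyNormalized (hS : IsPGroup p S) (hF : F.IsSaturated p)
    (hsc : F.StronglyClosed T) {X : Subgroup Ω} (hX : F.IsFullyNormalized X) : MaxCent F T X := by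
  intro X' hX'
  obtain ⟨f₀, hf₀, hi₀⟩ := isConj_iff.mp (isConj_symm hX')
  obtain ⟨-, hfa, hrec⟩ := fullyNormalized_props hS hF hX
  obtain ⟨-, -, f, hf, hfi, -, -⟩ := exists_map_normalizer hS hfa hrec hf₀ hi₀
  have hX'S : X' ≤ S := hf₀.le
  have hXN := le_normalizerIn (S := S) hX'S
  have hle : centralizerIn T X' ≤ normalizerIn S X' := fun c hc =>
    centralizerIn_le_normalizerIn X' ⟨hsc.1 hc.1, hc.2⟩
  refine card_le_of_isMap (hf.mono hle) le_rfl (inf_le_left.trans hsc.1) fun c hc => ?_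
  refine ⟨stronglyClosed_apply hsc hf (hle hc) hc.1, ?_⟩
  have h := hf.mem_centralizerIn hXN (hle hc) ⟨hsc.1 hc.1, hc.2⟩
  rw [hfi] at h
  exact h.2

/-- One step at a fully normalized subgroup. -/
theorem lift_step (hS : IsPGroup p S) (hF : F.IsSaturated p) (hsc : F.StronglyClosed T)
    {X B : Subgroup Ω} (hBn : F.IsFullyNormalized B) (hXB : X ≤ B)
    (hCB : centralizerIn T X ≤ B) {μ : MulAut B} (hμ : μ ∈ F.autGroup B)
    (hcop : (orderOf μ).Coprime p) (hfX : ∀ x ∈ X, autFun μ x = x)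
    (hfT : ∀ x ∈ B ⊓ T, autFun μ x = x) :
    ∃ ν ∈ F.autGroup (B ⊔ normalizerIn T B), (orderOf ν).Coprime p ∧
      (∀ x ∈ B, autFun ν x = autFun μ x) ∧
      ∀ x ∈ (B ⊔ normalizerIn T B) ⊓ T, autFun ν x = x := by
  have hBS := hBn.1
  haveI := finite_of_le hBS
  have hTS := hsc.1
  have hnT : ∀ s ∈ S, s ∈ Subgroup.normalizer (T : Set Ω) := fun s hs =>
    normalizes_of_stronglyClosed hsc hs
  set U := B ⊓ T with hU
  set K := Small.chainAut F B U inf_le_left
  have hst : ∀ α ∈ F.autGroup B, ∀ x ∈ U, autFun α x ∈ U := fun α hα x hx =>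
    ⟨autFun_mem α hx.1, stronglyClosed_apply hsc ((isMap_autFun hBS).mpr hα) hx.1 hx.2⟩
  obtain ⟨-, hfa, hrec⟩ := fullyNormalized_props hS hF hBn
  have hKS : K ≤ autInducedBy S B := by
    obtain ⟨χ, hχ, hχK⟩ := exists_conj_into_autS hfa (Small.isPGroup_chainAut hS inf_le_left hBS)
      fun _ hκ => hκ.1
    intro κ hκ
    have := hχK _ (Small.conj_chainAut inf_le_left hBS
      ⟨Subgroup.inv_mem _ hχ, hst _ (Subgroup.inv_mem _ hχ), hst _ (Subgroup.inv_mem _ hχ)⟩ hκ)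
    simpa [mul_assoc] using this
  have hμm := (isMap_autFun hBS).mpr hμ
  have hBX : B ⊔ normalizerIn T B ≤ extSub S B (autFun μ) := by
    refine sup_le (le_extSub hμm) fun s hs => ?_
    set c := conjAut B s hs.2
    have hcS : c ∈ autInducedBy S B := conjAut_mem_autInducedBy _ (hTS hs.1)
    have hcF : c ∈ F.autGroup B := autInducedBy_le hBS hcS
    have hcapp : ∀ r ∈ B, autFun c r = s * r * s⁻¹ := fun r hr => by
      rw [autFun_apply_mem _ hr, conjAut_apply]
    have hκ : μ * c * μ⁻¹ * c⁻¹ ∈ K := by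
      refine ⟨Subgroup.mul_mem _ (Subgroup.mul_mem _ (Subgroup.mul_mem _ hμ hcF)
        (Subgroup.inv_mem _ hμ)) (Subgroup.inv_mem _ hcF), fun x hx => ?_, fun r hr => ?_⟩
      · have hy : autFun c⁻¹ x ∈ U := hst _ (Subgroup.inv_mem _ hcF) x hx
        have hμy : autFun μ⁻¹ (autFun c⁻¹ x) = autFun c⁻¹ x := by
          conv_lhs => rw [← hfT _ hy, autFun_inv_apply' μ hy.1]
        rw [autFun_mul _ _ hx.1, autFun_mul _ _ hy.1, hμy, autFun_mul _ _ hy.1,
          autFun_inv_apply c hx.1, hfT x hx]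
      · have hy₀ : autFun c⁻¹ r ∈ B := autFun_mem _ hr
        set y := autFun μ⁻¹ (autFun c⁻¹ r)
        have hy : y ∈ B := autFun_mem _ hy₀
        rw [autFun_mul _ _ hr, autFun_mul _ _ hy₀, autFun_mul _ _ hy, hcapp y hy]
        have hr₀ : autFun c⁻¹ r = s⁻¹ * r * s := by
          have h := autFun_inv_apply c hr
          rw [hcapp _ hy₀] at h
          calc autFun c⁻¹ r = s⁻¹ * (s * autFun c⁻¹ r * s⁻¹) * s := by group
            _ = s⁻¹ * r * s := by rw [h]
        have hsyB : s * y * s⁻¹ ∈ B := conj_mem_of_mem_normalizer hs.2 hy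
        set u := s * y * s⁻¹ * y⁻¹
        have hu : u ∈ U := by
          refine ⟨B.mul_mem hsyB (B.inv_mem hy), ?_⟩
          show s * y * s⁻¹ * y⁻¹ ∈ T
          rw [show s * y * s⁻¹ * y⁻¹ = s * (y * s⁻¹ * y⁻¹) by group]
          exact T.mul_mem hs.1 (conj_mem_of_mem_normalizer (hnT y (hBS hy)) (T.inv_mem hs.1))
        rw [show s * y * s⁻¹ = u * y by simp only [u]; group, hμm.map_mul hu.1 hy, hfT u hu,
          autFun_inv_apply μ hy₀, hr₀]
        have hb : s⁻¹ * r * s * r⁻¹ ∈ U := by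
          refine ⟨B.mul_mem (hr₀ ▸ hy₀) (B.inv_mem hr), ?_⟩
          show s⁻¹ * r * s * r⁻¹ ∈ T
          rw [show s⁻¹ * r * s * r⁻¹ = s⁻¹ * (r * s * r⁻¹) by group]
          exact T.mul_mem (T.inv_mem hs.1) (conj_mem_of_mem_normalizer (hnT r (hBS hr)) hs.1)
        rw [mul_assoc u]
        exact U.mul_mem hu hb
    have h2 : μ * c * μ⁻¹ ∈ autInducedBy S B := by
      have := Subgroup.mul_mem _ (hKS hκ) hcS
      rwa [inv_mul_cancel_right] at this
    obtain ⟨h, hh, eh⟩ := mem_autInducedBy.mp h2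
    refine mem_extSub.mpr ⟨hTS hs.1, hs.2, h, hh, fun x hx => ?_⟩
    have h3 := eh ⟨autFun μ x, autFun_mem μ hx⟩
    rw [← autFun_apply, autFun_mul _ _ (autFun_mem μ hx), autFun_inv_apply' μ hx,
      autFun_mul _ _ hx, hcapp x hx] at h3
    exact h3
  obtain ⟨g, hg, hge⟩ := receptive_extend hrec hμm (img_autFun _)
  set B' := B ⊔ normalizerIn T B
  have hB'S : B' ≤ S := sup_le hBS (inf_le_left.trans hTS)
  haveI := finite_of_le hB'S
  have hgm := hg.mono hBX
  have hgB : img B g = B := (img_congr hge).trans (img_autFun μ)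
  have hst' : ∀ s ∈ normalizerIn T B, g s ∈ normalizerIn T B := fun s hs => by
    have hs' : s ∈ B' := Subgroup.mem_sup_right hs
    refine ⟨stronglyClosed_apply hsc hgm hs' hs.1, ?_⟩
    have := (hgm.mem_normalizerIn le_sup_left hs' hs.2).2
    rwa [hgB] at this
  obtain ⟨ν₀, hν₀, eν₀⟩ := hgm.exists_aut (Subgroup.eq_of_le_of_card_ge (by
    rw [hgm.img_sup, hgB]
    exact sup_le_sup_left (IsMap.img_le_iff.mpr hst') B) hgm.card_img.ge)
  obtain ⟨e, he, hee⟩ := NormCent.exists_coprime_agree hB'S le_sup_left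
    (fun x hx => (eν₀ x (Subgroup.mem_sup_left hx)).trans (hge x hx)) hcop
  refine ⟨ν₀ ^ e, pow_mem hν₀ e, he, hee, fun x hx => ?_⟩
  -- the fixed points
  have hm' := (isMap_autFun hB'S).mpr (pow_mem hν₀ e)
  have hB'p : IsPGroup p B' := hS.of_injective _ (Subgroup.inclusion_injective hB'S)
  haveI : ((B' ⊓ T).subgroupOf B').Normal := ⟨fun n hn g =>
    ⟨B'.mul_mem (B'.mul_mem g.2 n.2) (B'.inv_mem g.2),
      conj_mem_of_mem_normalizer (hnT g (hB'S g.2)) hn.2⟩⟩
  have h := Dicho.fix_of_fix_centralizer (W := X.subgroupOf B') (Q := (B' ⊓ T).subgroupOf B') hB'p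
    (ν₀ ^ e) he (fun w hw => Subtype.ext ?_) (fun q hq => ?_) (fun q hq hqc => Subtype.ext ?_)
    ⟨x, hx.1⟩ hx
  · rw [autFun_apply_mem _ hx.1]
    exact congrArg Subtype.val h
  · have hw' : (w : Ω) ∈ X := hw
    rw [← autFun_apply, hee _ (hXB hw')]
    exact hfX _ hw'
  · show ((ν₀ ^ e) q : Ω) ∈ B' ⊓ T
    rw [← autFun_apply]
    exact ⟨autFun_mem _ q.2, stronglyClosed_apply hsc hm' q.2 hq.2⟩
  · have hqC : (q : Ω) ∈ centralizerIn T X := Fusion.mem_centralizerIn.mpr ⟨hq.2, fun z hz => by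
      have hz' : z ∈ B' := Subgroup.mem_sup_left (hXB hz)
      have := congrArg Subtype.val (hqc ⟨z, hz'⟩ hz)
      simp only [Subgroup.coe_mul] at this
      rw [this, mul_inv_cancel_right]⟩
    rw [← autFun_apply, hee _ (hCB hqC)]
    exact hfT _ ⟨hCB hqC, hq.2⟩

/-- The shifts lie in the centralizer of the subsystem. -/
theorem shift_mem_largest {E : FusionSystem T} {Y : Subgroup Ω} (hS : IsPGroup p S)
    (hE : E.IsNormalIn F p) (hY : NormCent.Adm F E Y) (hmax : ∀ Y', NormCent.Adm F E Y' → Y' ≤ Y)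
    {X B : Subgroup Ω} (hBS : B ≤ S) (hX : MaxCent F T X) (hXB : X ≤ B)
    (hCB : centralizerIn T X ≤ B) {μ : MulAut B} (hμ : μ ∈ F.autGroup B)
    (hcop : (orderOf μ).Coprime p) (hfX : ∀ x ∈ X, autFun μ x = x)
    (hfT : ∀ x ∈ B ⊓ T, autFun μ x = x) : ∀ x ∈ B, x⁻¹ * autFun μ x ∈ Y := by
  suffices ∀ (n : ℕ) (X B : Subgroup Ω), Nat.card S - Nat.card B = n → B ≤ S → MaxCent F T X →
      X ≤ B → centralizerIn T X ≤ B → ∀ μ ∈ F.autGroup B, (orderOf μ).Coprime p →
      (∀ x ∈ X, autFun μ x = x) → (∀ x ∈ B ⊓ T, autFun μ x = x) →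
      ∀ x ∈ B, x⁻¹ * autFun μ x ∈ Y from
    this _ X B rfl hBS hX hXB hCB μ hμ hcop hfX hfT
  have hF := hE.1.2.1
  have hsc := hE.1.2.2.2.1
  have hTS := hsc.1
  have hYsc := NormCent.stronglyClosed_largest hS hE hY hmax
  intro n
  induction n using Nat.strong_induction_on with
  | _ n ih =>
  intro X B hn hBS hX hXB hCB μ hμ hcop hfX hfT
  haveI := finite_of_le hBS
  have hm := (isMap_autFun hBS).mpr hμ
  by_cases hTB : T ≤ B
  · -- trivial on `T`
    intro r hr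
    have hcT : ∀ x ∈ B, x⁻¹ * autFun μ x ∈ centralizerIn S T := fun x hx => by
      refine Fusion.mem_centralizerIn.mpr
        ⟨S.mul_mem (S.inv_mem (hBS hx)) (hBS (autFun_mem μ hx)), fun z hz => ?_⟩
      have hxz : x * z * x⁻¹ ∈ T :=
        conj_mem_of_mem_normalizer (normalizes_of_stronglyClosed hsc (hBS hx)) hz
      have h1 := hm.map_conj hx (hTB hz)
      rw [hfT _ ⟨hTB hxz, hxz⟩, hfT _ ⟨hTB hz, hz⟩] at h1
      calc x⁻¹ * autFun μ x * z * (x⁻¹ * autFun μ x)⁻¹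
          = x⁻¹ * (autFun μ x * z * (autFun μ x)⁻¹) * x := by group
        _ = z := by rw [← h1]; group
    set D := B ⊓ centralizerIn S T
    have hst : ∀ x ∈ D, autFun μ x ∈ D := fun x hx => ⟨autFun_mem μ hx.1, by
      have := (centralizerIn S T).mul_mem hx.2 (hcT x hx.1)
      rwa [mul_inv_cancel_left] at this⟩
    obtain ⟨δ, hδ, eδ, hd⟩ := Product.exists_restrict hBS hμ inf_le_left hst
    have hDC : D ≤ centralizerIn S T := inf_le_right
    have hδC : δ ∈ (centralizerSystem F hTS).autGroup D := by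
      refine (isMap_autFun hDC).mp ((isMap_of_isCentralizerSystem
        (isCentralizerSystem_centralizerSystem hTS)).mpr ⟨hDC, fun y hy => hDC (autFun_mem δ hy),
          (isMap_autFun (inf_le_left.trans hBS)).mpr hδ, autFun μ,
          hm.mono (sup_le inf_le_left hTB), fun x hx => (eδ x hx).symm,
          fun x hx => hfT x ⟨hTB hx, hx⟩⟩)
    have hDY : ∀ x ∈ D, x⁻¹ * autFun μ x ∈ Y := fun x hx => by
      rw [← eδ x hx]
      exact NormCent.hyperfocal_le_largest hS hE hmax (mem_hyperfocalSubgroup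
        (α := ⟨δ, hδC⟩) hDC (Cfsg.Lib.Transfer.mem_pResidual_of_coprime
          (by rw [Subgroup.orderOf_mk]; exact hcop.coprime_dvd_left hd)) hx)
    have hyD : ∀ x ∈ B, autFun μ x * x⁻¹ ∈ D := fun x hx => by
      refine ⟨B.mul_mem (autFun_mem μ hx) (B.inv_mem hx), ?_⟩
      have h := hcT x⁻¹ (B.inv_mem hx)
      rw [inv_inv, hm.map_inv hx] at h
      simpa using (centralizerIn S T).inv_mem h
    haveI := finite_of_le (inf_le_left.trans hBS : B ⊓ Y ≤ S)
    have hnY : B ≤ Subgroup.normalizer (Y : Set Ω) := fun x hx =>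
      normalizes_of_stronglyClosed hYsc (hBS hx)
    have hnBY : B ≤ Subgroup.normalizer ((B ⊓ Y : Subgroup Ω) : Set Ω) := fun x hx =>
      mem_normalizer_of_maps_finite (P := B ⊓ Y) fun z hz =>
        ⟨B.mul_mem (B.mul_mem hx hz.1) (B.inv_mem hx), conj_mem_of_mem_normalizer (hnY hx) hz.2⟩
    have h := NormCent.mem_of_shift hS hBS (U := B ⊓ Y) (fun _ h => h.1) hnBY hμ
      (fun x hx => ⟨autFun_mem μ hx.1, stronglyClosed_apply hYsc hm hx.1 hx.2⟩) hcop hr
      ⟨B.mul_mem (B.inv_mem (hyD r hr).1) (autFun_mem μ (hyD r hr).1), hDY _ (hyD r hr)⟩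
    have h' := conj_mem_of_mem_normalizer (hnY (B.inv_mem hr)) h.2
    rwa [show r⁻¹ * (autFun μ r * r⁻¹) * r⁻¹⁻¹ = r⁻¹ * autFun μ r by group] at h'
  -- move to a fully normalized subgroup
  obtain ⟨B₂, hBB₂, hB₂⟩ := exists_fullyNormalized (F := F) hBS
  obtain ⟨f₀, hf₀, hi₀⟩ := isConj_iff.mp hBB₂
  obtain ⟨-, hfa, hrec⟩ := fullyNormalized_props hS hF hB₂
  obtain ⟨-, -, f, hf, hfi, -, hfN⟩ := exists_map_normalizer hS hfa hrec hf₀ hi₀
  set M := normalizerIn S B
  have hBM : B ≤ M := le_normalizerIn hBS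
  have hfB := hf.mono hBM
  haveI := finite_of_le hB₂.1
  set X₂ := img X f
  set μ₂ := MulAut.congr (hfB.equiv hfi) μ
  have eμ₂ : ∀ x ∈ B, autFun μ₂ (f x) = f (autFun μ x) := fun x hx =>
    congr_equiv_spec hfB hfi μ hx
  have hX₂B : X₂ ≤ B₂ := hfi ▸ img_mono hXB f
  have hU₂ : B₂ ⊓ T = img (B ⊓ T) f := by rw [img_inf_stronglyClosed hsc hfB, hfi]
  have hXX₂ : F.IsConj X X₂ := isConj_iff.mpr ⟨f, hfB.mono hXB, rfl⟩
  have hC₂ : centralizerIn T X₂ = img (centralizerIn T X) f := by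
    haveI : Finite (centralizerIn T X₂) := finite_of_le (inf_le_left.trans hTS)
    refine (Subgroup.eq_of_le_of_card_ge (IsMap.img_le_iff.mpr fun c hc => ?_) ?_).symm
    · refine ⟨stronglyClosed_apply hsc hfB (hCB hc) hc.1, ?_⟩
      exact ((hfB.mem_centralizerIn hXB (hCB hc) ⟨hTS hc.1, hc.2⟩)).2
    · rw [(hfB.mono hCB).card_img]
      exact hX _ hXX₂
  have hX₂ : MaxCent F T X₂ := fun X' hX' => by
    rw [hC₂, (hfB.mono hCB).card_img]
    exact hX X' (isConj_trans hXX₂ hX')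
  have hC₂B : centralizerIn T X₂ ≤ B₂ := hC₂ ▸ hfi ▸ img_mono hCB f
  obtain ⟨ν, hν, hνcop, eν, hνT⟩ := lift_step hS hF hsc hB₂ hX₂B hC₂B
    (congr_mem_autGroup hfB hfi hμ : μ₂ ∈ _)
    ((orderOf_injective (MulAut.congr (hfB.equiv hfi)).toMonoidHom
      (MulAut.congr (hfB.equiv hfi)).injective μ).symm ▸ hcop)
    (fun y hy => by
      obtain ⟨x, hx, rfl⟩ := (hfB.mono hXB).mem_img.mp hy
      rw [eμ₂ x (hXB hx), hfX x hx])
    (fun y hy => by
      rw [hU₂] at hy
      obtain ⟨x, hx, rfl⟩ := (hfB.mono inf_le_left).mem_img.mp hy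
      rw [eμ₂ x hx.1, hfT x hx])
  let B₂' := B₂ ⊔ normalizerIn T B₂
  have hB₂'S : B₂' ≤ S := sup_le hB₂.1 (inf_le_left.trans hTS)
  haveI := finite_of_le hB₂'S
  have hTB₂ : ¬ T ≤ B₂ := fun h => hTB <| by
    have h1 : B₂ ⊓ T = T := inf_eq_right.mpr h
    have hBTc : Nat.card (B ⊓ T : Subgroup Ω) = Nat.card T := by
      rw [← (hfB.mono inf_le_left).card_img, ← hU₂, h1]
    haveI := finite_of_le hTS
    exact (Subgroup.eq_of_le_of_card_ge (inf_le_right : B ⊓ T ≤ T) hBTc.ge).ge.trans inf_le_left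
  have hlt : Nat.card B < Nat.card B₂' := by
    rw [← hfB.card_img, hfi]
    have hlt : B₂ < B₂ ⊔ T := lt_of_le_of_ne le_sup_left fun h => hTB₂ (h ▸ le_sup_right)
    obtain ⟨v, hv, hvB⟩ := SetLike.exists_of_lt (lt_inf_normalizer hS hlt (sup_le hB₂.1 hTS))
    have hBT : B₂ ≤ Subgroup.normalizer (T : Set Ω) := fun x hx =>
      normalizes_of_stronglyClosed hsc (hB₂.1 hx)
    have hv1 : v ∈ ((B₂ ⊔ T : Subgroup Ω) : Set Ω) := hv.1
    rw [Subgroup.coe_mul_of_left_le_normalizer_right B₂ T hBT] at hv1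
    obtain ⟨q, hq, t, ht, rfl⟩ := hv1
    have htn : t ∈ Subgroup.normalizer (B₂ : Set Ω) := by
      have := Subgroup.mul_mem _ (Subgroup.inv_mem _ (Subgroup.le_normalizer hq)) hv.2
      rwa [inv_mul_cancel_left] at this
    refine lt_of_le_of_ne (Subgroup.card_le_of_le le_sup_left) fun h => hvB (B₂.mul_mem hq ?_)
    exact (Subgroup.eq_of_le_of_card_ge le_sup_left h.ge).symm ▸
      (Subgroup.mem_sup_right ⟨ht, htn⟩ : t ∈ B₂')
  have hcard := Subgroup.card_le_of_le hB₂'S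
  have h2 := ih _ (by omega) X₂ B₂' rfl hB₂'S hX₂ (hX₂B.trans le_sup_left)
    (hC₂B.trans le_sup_left) ν hν hνcop (fun x hx => by
      obtain ⟨y, hy, rfl⟩ := (hfB.mono hXB).mem_img.mp hx
      rw [eν _ (hX₂B hx), eμ₂ y (hXB hy), hfX y hy]) hνT
  intro x hx
  have hfx : f x ∈ B₂ := hfi ▸ IsMap.apply_mem_img hx
  have h3 := h2 _ (Subgroup.mem_sup_left hfx)
  rw [eν _ hfx, eμ₂ x hx, ← hfB.map_inv hx, ← hfB.map_mul (B.inv_mem hx) (autFun_mem μ hx)] at h3
  exact mem_of_apply_mem_stronglyClosed hYsc hfB (B.mul_mem (B.inv_mem hx) (autFun_mem μ hx)) h3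

end Cfsg.Lib.Fusion.Balance
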