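import Cfsg.Agent.Fusion.Balance.Normalizer
import Cfsg.Agent.Fusion.Balance.Lift
import Cfsg.Agent.Fusion.CompNormal.Dichotomy
import Cfsg.Agent.Fusion.CompNormal.LayerNormal
import Cfsg.Agent.Fusion.NormalCentralizer.CentSub
import Cfsg.Agent.Fusion.NormalCentralizer.CoreLayer
import Cfsg.Agent.Fusion.ComponentExistence
import Cfsg.Agent.S5148

/-!
The layer of a normalizer system lies in the layer.
-/

set_option autoImplicit false
set_option linter.unusedSectionVars false
set_option linter.style.haveILetI false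
set_option maxHeartbeats 400000

namespace Cfsg.Lib.Fusion.Balance

open Cfsg Cfsg.FusionSystem Cfsg.Lib.Fusion

universe u

variable {Ω : Type u} [Group Ω] {S T X : Subgroup Ω} {F : FusionSystem S} {E : FusionSystem T}
  {p : ℕ} [Finite S] [Fact p.Prime]

/-- The normalizer system is saturated and `X` is normal in it. -/
theorem normalizer_facts (hS : IsPGroup p S) (hF : F.IsSaturated p) (hX : F.IsFullyNormalized X)
    {N : FusionSystem (normalizerIn S X)} (hN : F.IsNormalizerSystem X N) :
    N.IsSaturated p ∧ N.IsNormal X := by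
  refine ⟨?_, ?_⟩
  · have e : N = normalizerSystem F hX.1 :=
      fusionSystem_ext fun P => (hN P).trans (isNormalizerSystem_normalizerSystem hX.1 P).symm
    rw [e]
    exact saturated_normalizerSystem hS hF hX
  · have hXW : X ≤ normalizerIn S X := le_normalizerIn hX.1
    refine isNormal_of_extendsWith hXW fun P f hf => ?_
    obtain ⟨hP, hfW, -, k, hk, hkf, hkX⟩ := (isMap_of_isNormalizerSystem hN).mp hf
    refine ⟨k, (isMap_of_isNormalizerSystem hN).mpr
      ⟨sup_le hP hXW, IsMap.img_le_iff.mp ?_, hk, ?_⟩, hkf, hkX⟩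
    · rw [hk.img_sup, hkX]
      exact sup_le (IsMap.img_le_iff.mpr fun x hx => hkf x hx ▸ hfW x hx) hXW
    · exact ⟨k, by rwa [sup_assoc, sup_idem], fun _ _ => rfl, hkX⟩

set_option maxHeartbeats 1600000 in
/-- A component of the normalizer system lies in a normal subsystem or in its centralizer. -/
theorem component_alternative (hS : IsPGroup p S) (hE : E.IsNormalIn F p) {Y : Subgroup Ω}
    (hY : NormCent.Adm F E Y) (hmax : ∀ Y', NormCent.Adm F E Y' → Y' ≤ Y)
    (hX : F.IsFullyNormalized X) {N : FusionSystem (normalizerIn S X)}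
    (hN : F.IsNormalizerSystem X N) {U : Subgroup Ω} {K : FusionSystem U}
    (hK : K.IsComponentIn N p) : U ≤ T ∨ U ≤ Y := by
  have hF := hE.1.2.1
  have hsc := hE.1.2.2.2.1
  obtain ⟨hNs, hXN⟩ := normalizer_facts hS hF hX hN
  obtain ⟨M, hM, -⟩ := exists_normal_normalizer hS hE hX hN
  have hXS := hX.1
  have hWS : normalizerIn S X ≤ S := inf_le_left
  haveI : Finite (normalizerIn S X) := finite_of_le hWS
  have hWp : IsPGroup p (normalizerIn S X) :=
    hS.of_injective _ (Subgroup.inclusion_injective hWS)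
  have hUX := (NormCent.centralizer_of_component hK.1 hK.2 Fact.out inferInstance hWp hXN).1
  have hCN := NormCent.centralizerSystem_isNormalIn hWp hNs hXN
  set CN := centralizerSystem N hXN.1
  have hCW : centralizerIn (normalizerIn S X) X ≤ normalizerIn S X := inf_le_left
  haveI : Finite (centralizerIn (normalizerIn S X) X) := finite_of_le hCW
  have hCp : IsPGroup p (centralizerIn (normalizerIn S X) X) :=
    hWp.of_injective _ (Subgroup.inclusion_injective hCW)
  have hKC := CompNormal.subnormal_meet hK.1 hK.2 Fact.out inferInstance hWp hCN hUX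
  obtain ⟨MC, ⟨-, -, hMCC⟩, -⟩ := Meet.exists_meet hWp hM hCN
  rcases CompNormal.dichotomy hKC hK.2 Fact.out inferInstance hCp hMCC with hle | hadm
  · exact Or.inl ((Layer.le_of_isSubsystemOf hle).trans (inf_le_left.trans inf_le_left))
  refine Or.inr ?_
  set VC := normalizerIn T X ⊓ centralizerIn (normalizerIn S X) X
  obtain ⟨Y', hY', hmax'⟩ := NormCent.exists_largest hCp hMCC
  obtain ⟨D, hD, -, hDc⟩ := NormCent.exists_centralizer_subsystem hCp hMCC hY' hmax'
  have hKD : K.IsSubsystemOf D := Layer.component_le hKC hK.2 Fact.out inferInstance hCp hD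
    (hmax' U hadm)
  have hUS : U ≤ S := (hUX.trans hCW).trans hWS
  rw [← hK.2.2.1]
  refine hyperfocal_le_of_coprime fun P hP α hα hcop x hx => ?_
  -- the extension fixing `X` and the centralizer
  obtain ⟨φ, hφ, eφ⟩ := CharSub.isMap_of_sub hKD ((isMap_autFun hP).mpr hα)
  obtain ⟨-, -, -, k, hk, hkf, hkV⟩ := mem_centralizerHom_iff.mp (hDc P hφ)
  have hkα : ∀ x ∈ P, k x = autFun α x := fun y hy =>
    (hkf y hy).trans ((toFun'_apply_mem φ hy).trans (eφ ⟨y, hy⟩))
  obtain ⟨-, -, -, k₂, hk₂, hk₂f, hk₂X⟩ :=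
    (isMap_of_isCentralizerSystem (isCentralizerSystem_centralizerSystem hXN.1)).mp hk
  obtain ⟨-, -, hk₂F, -⟩ := (isMap_of_isNormalizerSystem hN).mp hk₂
  set Z := VC ⊔ X
  have hPS : P ≤ S := hP.trans hUS
  have hVCS : VC ≤ S := inf_le_left.trans (inf_le_left.trans hsc.1)
  have hBS : P ⊔ Z ≤ S := sup_le hPS (sup_le hVCS hXS)
  haveI := finite_of_le hBS
  rw [sup_assoc] at hk₂F
  have hZfix : ∀ z ∈ Z, k₂ z = z := NormCent.fix_sup hk₂F
    ((le_sup_left : VC ≤ Z).trans le_sup_right) ((le_sup_right : X ≤ Z).trans le_sup_right)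
    (fun z hz => (hk₂f z (Subgroup.mem_sup_right hz)).trans (hkV z hz)) hk₂X
  have hk₂P : ∀ y ∈ P, k₂ y = autFun α y := fun y hy =>
    (hk₂f y (Subgroup.mem_sup_left hy)).trans (hkα y hy)
  obtain ⟨ν, hν, eν⟩ := hk₂F.exists_aut (by
    rw [hk₂F.img_sup, img_congr hk₂P, img_autFun, fix_img hZfix])
  obtain ⟨e, he, hee⟩ := NormCent.exists_coprime_agree hBS le_sup_left
    (fun y hy => (eν y (Subgroup.mem_sup_left hy)).trans (hk₂P y hy)) hcop
  set μ := ν ^ e
  have hμZ : ∀ z ∈ Z, autFun μ z = z := by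
    have : ∀ n : ℕ, ∀ z ∈ Z, autFun (ν ^ n) z = z := by
      intro n
      induction n with
      | zero => exact fun z hz => by rw [pow_zero, autFun_one (Subgroup.mem_sup_right hz)]
      | succ n ih =>
        intro z hz
        rw [pow_succ, autFun_mul _ _ (Subgroup.mem_sup_right hz),
          eν z (Subgroup.mem_sup_right hz), hZfix z hz, ih z hz]
    exact this e
  have hμm : IsMap F (P ⊔ Z) (autFun μ) := (isMap_autFun hBS).mpr (pow_mem hν e)
  have hCT : centralizerIn T X ≤ VC := fun c hc =>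
    ⟨⟨hc.1, (centralizerIn_le_normalizerIn X hc).2⟩,
      ⟨⟨hsc.1 hc.1, (centralizerIn_le_normalizerIn X hc).2⟩, hc.2⟩⟩
  -- `U` centralizes `Z`
  have hUZ : ∀ u ∈ U, ∀ z ∈ Z, u * z * u⁻¹ = z := by
    intro u hu z hz
    have hle : Z ≤ Subgroup.centralizer {u} := sup_le
      (fun v hv => Subgroup.mem_centralizer_singleton_iff.mpr (by
        have h := (Fusion.mem_centralizerIn.mp (hadm.1 hu)).2 v hv
        exact (mul_inv_eq_iff_eq_mul.mp h).symm))
      (fun v hv => Subgroup.mem_centralizer_singleton_iff.mpr (by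
        have h := (Fusion.mem_centralizerIn.mp (hUX hu)).2 v hv
        exact (mul_inv_eq_iff_eq_mul.mp h).symm))
    rw [← Subgroup.mem_centralizer_singleton_iff.mp (hle hz), mul_inv_cancel_right]
  have hPZ : P ≤ Subgroup.normalizer (Z : Set Ω) := fun y hy => by
    haveI := finite_of_le (sup_le hVCS hXS : Z ≤ S)
    exact mem_normalizer_of_maps_finite fun z hz => by rwa [hUZ y (hP hy) z hz]
  have hfT : ∀ y ∈ (P ⊔ Z) ⊓ T, autFun μ y = y := by
    rintro y ⟨hy, hyT⟩
    have hy1 : y ∈ ((P ⊔ Z : Subgroup Ω) : Set Ω) := hy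
    rw [Subgroup.coe_mul_of_left_le_normalizer_right P Z hPZ] at hy1
    obtain ⟨q, hq, z, hz, rfl⟩ := hy1
    have hqU : autFun α q ∈ U := hP (autFun_mem α hq)
    set u := q⁻¹ * autFun α q
    have hu : u ∈ U := U.mul_mem (U.inv_mem (hP hq)) hqU
    have hμy : autFun μ (q * z) = q * z * u := by
      rw [hμm.map_mul (Subgroup.mem_sup_left hq) (Subgroup.mem_sup_right hz), hμZ z hz, hee q hq]
      have h := hUZ u hu z hz
      calc autFun α q * z = q * (u * z * u⁻¹) * u := by simp only [u]; group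
        _ = q * z * u := by rw [h]
    have huT : u ∈ T := by
      have h := T.mul_mem (T.inv_mem hyT) (stronglyClosed_apply hsc hμm hy hyT)
      rwa [hμy, inv_mul_cancel_left] at h
    have huZ : u ∈ Z := Subgroup.mem_sup_left (hCT
      ⟨huT, (hUX hu).2⟩)
    have hpow : ∀ n : ℕ, autFun (μ ^ n) (q * z) = q * z * u ^ n := by
      intro n
      induction n with
      | zero => rw [pow_zero, autFun_one hy, pow_zero, mul_one]
      | succ n ih =>
        rw [pow_succ', autFun_mul _ _ hy, ih,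
          hμm.map_mul hy (Subgroup.mem_sup_right (Z.pow_mem huZ n)), hμy,
          hμZ _ (Z.pow_mem huZ n), mul_assoc, ← pow_succ']
    have h1 := hpow (orderOf μ)
    rw [pow_orderOf_eq_one, autFun_one hy, left_eq_mul] at h1
    obtain ⟨i, hi⟩ := NormCent.exists_pow_eq_one hS (hUS hu)
    have hu1 : u = 1 := Subgroup.mem_bot.mp
      (NormCent.mem_of_pow_mem_coprime hi he (Subgroup.mem_bot.mpr h1))
    rw [hμy, hu1, mul_one]
  have h := shift_mem_largest hS hE hY hmax hBS (maxCent_of_fullyNormalized hS hF hsc hX)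
    ((le_sup_right : X ≤ Z).trans le_sup_right)
    ((hCT.trans (le_sup_left : VC ≤ Z)).trans le_sup_right) (pow_mem hν e) he
    (fun z hz => hμZ z (Subgroup.mem_sup_right hz)) hfT x (Subgroup.mem_sup_left hx)
  rwa [hee x hx] at h

/-- `E`-balance. -/
theorem layer_balance (hS : IsPGroup p S) (hF : F.IsSaturated p) (hX : F.IsFullyNormalized X)
    {N : FusionSystem (normalizerIn S X)} (hN : F.IsNormalizerSystem X N) {U : Subgroup Ω}
    {EN : FusionSystem U} (hEN : EN.IsLayerOf N p) (hE : E.IsLayerOf F p) :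
    EN.IsSubsystemOf E := by
  obtain ⟨M, hM, hME⟩ := exists_normal_normalizer hS hE.1 hX hN
  have hWS : normalizerIn S X ≤ S := inf_le_left
  haveI : Finite (normalizerIn S X) := finite_of_le hWS
  have hWp : IsPGroup p (normalizerIn S X) :=
    hS.of_injective _ (Subgroup.inclusion_injective hWS)
  suffices hall : ∀ (W : Subgroup Ω) (K : FusionSystem W), K.IsComponentIn N p →
      K.IsSubsystemOf M from fun P φ hφ => hME P (hEN.2.2 _ M hM hall P hφ)
  intro W K hK
  have hWN := subnormal_le hK.1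
  suffices hWT : W ≤ T from Layer.component_le hK.1 hK.2 Fact.out inferInstance hWp hM
    fun x hx => ⟨hWT hx, (hWN hx).2⟩
  obtain ⟨Y, hY, hmax⟩ := NormCent.exists_largest hS hE.1
  refine (component_alternative hS hE.1 hY hmax hX hN hK).resolve_right fun hWY => ?_
  -- the centralizer of the layer is constrained
  obtain ⟨DY, hDY, -, -⟩ := NormCent.exists_centralizer_subsystem hS hE.1 hY hmax
  have hYS : Y ≤ S := hY.1.trans inf_le_left
  haveI := finite_of_le hYS
  have hYp : IsPGroup p Y := hS.of_injective _ (Subgroup.inclusion_injective hYS)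
  have hcon : DY.IsConstrained p := by
    refine (CompEx.isConstrained_iff hYp hDY.1.1).mpr fun ⟨V, C, hC, hq⟩ => ?_
    have hVY := subnormal_le hC
    have hVT : V ≤ T := Layer.le_of_isSubsystemOf (hE.2.1 V C ⟨.step hC hDY, hq⟩)
    haveI := finite_of_le (hVY.trans hYS)
    refine Cfsg.Agent.S5148.result p
      (hS.of_injective _ (Subgroup.inclusion_injective (hVY.trans hYS))) C hq
      ⟨⟨fun a b => Subtype.ext ?_⟩⟩
    exact mul_inv_eq_iff_eq_mul.mp
      ((Fusion.mem_centralizerIn.mp (hY.1 (hVY a.2))).2 b (hVT b.2))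
  set R := DY.core
  have hRc : centralizerIn Y R ≤ R := CompEx.centralizer_le_core hcon
  have hRF : F.IsNormal R := CompEx.isNormal_core_of_invariant hDY.1.2.2 hS hF
  haveI := finite_of_le hRF.1
  have hI := NormCent.inner_isNormalIn hS hF hRF
  obtain ⟨YR, hYR, hmaxR⟩ := NormCent.exists_largest hS hI
  have hWR : W ≤ R := by
    rcases component_alternative hS hI hYR hmaxR hX hN hK with h | h
    · exact h
    · exact fun x hx => hRc ⟨hWY hx, (hYR.1 (h hx)).2⟩
  obtain ⟨MR, hMR, hMRI⟩ := exists_normal_normalizer hS hI hX hN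
  have hKMR : K.IsSubsystemOf MR := Layer.component_le hK.1 hK.2 Fact.out inferInstance hWp hMR
    fun x hx => ⟨hWR hx, (hWN hx).2⟩
  -- such a component would be trivial
  have hWS' : W ≤ S := hWN.trans hWS
  haveI := finite_of_le hWS'
  have hbot : W ≤ ⊥ := by
    rw [← hK.2.2.1]
    refine hyperfocal_le_of_coprime fun P hP α hα hcop x hx => ?_
    obtain ⟨φ, hφ, eφ⟩ :=
      CharSub.isMap_of_sub hMRI (CharSub.isMap_of_sub hKMR ((isMap_autFun hP).mpr hα))
    obtain ⟨-, g, hg, eg⟩ := id hφ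
    have hgα : ∀ y ∈ P, autFun α y = g * y * g⁻¹ := fun y hy =>
      (eφ ⟨y, hy⟩).symm.trans (eg ⟨y, hy⟩)
    have hpow : ∀ n : ℕ, ∀ y ∈ P, autFun (α ^ n) y = g ^ n * y * (g ^ n)⁻¹ := by
      intro n
      induction n with
      | zero => exact fun y hy => by rw [pow_zero, autFun_one hy]; simp
      | succ n ih =>
        intro y hy
        rw [pow_succ, autFun_mul _ _ hy, ih _ (autFun_mem α hy), hgα y hy, pow_succ]
        group
    obtain ⟨i, hi⟩ := NormCent.exists_pow_eq_one hS (hRF.1 hg)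
    have h1 : α ^ p ^ i = 1 := eq_one_of_autFun fun y hy => by
      rw [hpow _ y hy, hi]; simp
    have hα1 : α = 1 := orderOf_eq_one_iff.mp
      (Nat.eq_one_of_dvd_coprimes (hcop.pow_right i) dvd_rfl (orderOf_dvd_of_pow_eq_one h1))
    rw [Subgroup.mem_bot, hα1, autFun_one hx, inv_mul_cancel]
  refine Cfsg.Agent.S5148.result p
    (hS.of_injective _ (Subgroup.inclusion_injective hWS')) K hK.2
    ⟨⟨fun a b => Subtype.ext ?_⟩⟩
  show (a : Ω) * b = b * a
  rw [Subgroup.mem_bot.mp (hbot a.2), Subgroup.mem_bot.mp (hbot b.2)]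

end Cfsg.Lib.Fusion.Balance
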