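import Cfsg.Agent.Fusion.PPowerTheory

/-!
Transport of a saturated subsystem by an automorphism, tested on elements of order prime to `p`.
-/

set_option autoImplicit false
set_option linter.unusedSectionVars false
set_option linter.style.haveILetI false

namespace Cfsg.Lib.Fusion.Balance

open Cfsg Cfsg.FusionSystem Cfsg.Lib.Fusion

universe u

variable {Ω : Type u} [Group Ω] {S T : Subgroup Ω} {F : FusionSystem S} {E : FusionSystem T}
  {p : ℕ} [Finite S] [Fact p.Prime]

/-- Transport by an automorphism of `T`. -/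
theorem transport_of_coprime (hS : IsPGroup p S) (hT : T ≤ S) (hE : E.IsSaturated p)
    {α : MulAut T} (hα : α ∈ F.autGroup T)
    (hcong : ∀ (Q : Subgroup Ω) (hQ : Q ≤ T) (β : MulAut Q), β ∈ E.autGroup Q →
      (orderOf β).Coprime p → MulAut.congr ((((isMap_autFun hT).mpr hα).mono hQ).equiv rfl) β ∈
        E.autGroup (img Q (autFun α))) {P : Subgroup Ω}
    {f : Ω → Ω} (hf : IsMap E P f) :
    IsMap E (img P (autFun α)) (fun y => autFun α (f (autFun α⁻¹ y))) := by
  haveI := finite_of_le hT
  have hTp : IsPGroup p T := hS.of_injective _ (Subgroup.inclusion_injective hT)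
  have ha : IsMap F T (autFun α) := (isMap_autFun hT).mpr hα
  have hai : IsMap F T (autFun α⁻¹) := (isMap_autFun hT).mpr (Subgroup.inv_mem _ hα)
  let Ψ : Subgroup Ω → (Ω → Ω) → Prop := fun R g =>
    IsMap E (img R (autFun α)) (fun y => autFun α (g (autFun α⁻¹ y)))
  have hcls : IsMapClass E Ψ :=
    { conj := fun R g hR hg => by
        refine (isMap_conj (IsMap.img_le_iff.mpr fun x hx => autFun_mem α (hR hx))
          (autFun_mem α hg)).congr fun y hy => ?_
        obtain ⟨x, hx, rfl⟩ := (ha.mono hR).mem_img.mp hy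
        show autFun α (g * autFun α⁻¹ (autFun α x) * g⁻¹) = _
        rw [autFun_inv_apply' α (hR hx), ha.map_conj hg (hR hx)]
      congr := fun R g g' hg e h => h.congr fun y hy => by
        obtain ⟨x, hx, rfl⟩ := (ha.mono hg.le).mem_img.mp hy
        rw [autFun_inv_apply' α (hg.le hx), e x hx]
      mono := fun R R' g _ hR h => h.mono (img_mono hR _)
      comp := fun R Q g g' hg hg' hgQ h h' => by
        have hmem : ∀ y ∈ img R (autFun α), autFun α (g (autFun α⁻¹ y)) ∈ img Q (autFun α) := by
          intro y hy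
          obtain ⟨x, hx, rfl⟩ := (ha.mono hg.le).mem_img.mp hy
          rw [autFun_inv_apply' α (hg.le hx)]
          exact IsMap.apply_mem_img (hgQ x hx)
        refine (h.comp h' hmem).congr fun y hy => ?_
        obtain ⟨x, hx, rfl⟩ := (ha.mono hg.le).mem_img.mp hy
        show autFun α (g' (g (autFun α⁻¹ (autFun α x)))) =
          autFun α (g' (autFun α⁻¹ (autFun α (g (autFun α⁻¹ (autFun α x))))))
        rw [autFun_inv_apply' α (hg.le hx), autFun_inv_apply' α (hg.mem_S hx)]
      inv := fun R g k hg hk hl h => by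
        obtain ⟨i, hi, -, hil, -⟩ := h.exists_inv
        have e : img (img R g) (autFun α) =
            img (img R (autFun α)) (fun y => autFun α (g (autFun α⁻¹ y))) := by
          have hgm : ∀ x ∈ R, g x ∈ T := fun x hx => hg.mem_S hx
          refine le_antisymm (IsMap.img_le_iff.mpr fun y hy => ?_) (IsMap.img_le_iff.mpr fun y hy => ?_)
          · obtain ⟨x, hx, rfl⟩ := hg.mem_img.mp hy
            have := IsMap.apply_mem_img (f := fun y => autFun α (g (autFun α⁻¹ y)))
              (IsMap.apply_mem_img (f := autFun α) hx)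
            show autFun α (g x) ∈ _
            simpa [autFun_inv_apply' α (hg.le hx)] using this
          · obtain ⟨x, hx, rfl⟩ := (ha.mono hg.le).mem_img.mp hy
            rw [autFun_inv_apply' α (hg.le hx)]
            exact IsMap.apply_mem_img (IsMap.apply_mem_img hx)
        show IsMap E _ _
        rw [e]
        refine hi.congr fun y hy => ?_
        obtain ⟨z, hz, rfl⟩ := h.mem_img.mp hy
        obtain ⟨x, hx, rfl⟩ := (ha.mono hg.le).mem_img.mp hz
        rw [hil _ hz]
        show autFun α (k (autFun α⁻¹ (autFun α (g (autFun α⁻¹ (autFun α x)))))) = _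
        rw [autFun_inv_apply' α (hg.le hx), autFun_inv_apply' α (hg.mem_S hx), hl x hx] }
  have hsite : ∀ Q : Subgroup Ω, E.IsFullyNormalized Q → ∀ γ ∈ E.autGroup Q, Ψ Q (autFun γ) := by
    intro Q hQn
    have hQ := hQn.1
    haveI := finite_of_le hQ
    have hm := ha.mono hQ
    suffices hle : E.autGroup Q ≤ (E.autGroup (img Q (autFun α))).comap
        (MulAut.congr (hm.equiv rfl)).toMonoidHom by
      intro γ hγ
      refine ((isMap_autFun (IsMap.img_le_iff.mpr fun x hx => autFun_mem α (hQ hx))).mpr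
        (hle hγ)).congr fun y hy => ?_
      obtain ⟨x, hx, rfl⟩ := hm.mem_img.mp hy
      show autFun α (autFun γ (autFun α⁻¹ (autFun α x))) =
        autFun (MulAut.congr (hm.equiv rfl) γ) (autFun α x)
      rw [autFun_inv_apply' α (hQ hx), congr_equiv_spec hm rfl γ hx]
    refine PPower.autGroup_le_of hS hT hE hQn ?_ ?_
    · intro β hβ
      obtain ⟨t, ht, et⟩ := mem_autInducedBy.mp hβ
      refine Subgroup.mem_comap.mpr (autInducedBy_le (IsMap.img_le_iff.mpr fun x hx =>
        autFun_mem α (hQ hx)) (mem_autInducedBy.mpr ⟨autFun α t, autFun_mem α ht, fun y => ?_⟩))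
      obtain ⟨x, hx, e⟩ := hm.mem_img.mp y.2
      rw [← autFun_apply, ← e]
      show autFun (MulAut.congr (hm.equiv rfl) β) (autFun α x) = _
      rw [congr_equiv_spec hm rfl β hx, autFun_apply_mem _ hx, et, ha.map_conj ht (hQ hx)]
    · exact fun β hβ hcop => Subgroup.mem_comap.mpr (hcong Q hQ β hβ hcop)
  have hTn : E.IsFullyNormalized T := ⟨le_rfl, fun Q hQ => by
    obtain ⟨f, hf, rfl⟩ := isConj_iff.mp hQ
    rw [Subgroup.eq_of_le_of_card_ge hf.img_le hf.card_img.ge]⟩
  refine alperin_radical hTp hE hcls (fun g hg => ?_) (fun Q _ hQn _ _ _ γ hγ => hsite Q hQn γ hγ) hf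
  obtain ⟨γ, hγ, e⟩ := hg.exists_aut (Subgroup.eq_of_le_of_card_ge hg.img_le hg.card_img.ge)
  exact hcls.congr T _ g ((isMap_autFun le_rfl).mpr hγ) (fun x hx => (e x hx).symm) (hsite T hTn γ hγ)

end Cfsg.Lib.Fusion.Balance
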