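import Cfsg.Agent.Fusion.Balance.Inner
import Cfsg.Agent.Fusion.Balance.Transport
import Cfsg.Agent.Fusion.Product.Unique
import Cfsg.Agent.Fusion.Puig
import Cfsg.Agent.Fusion.Dichotomy
import Cfsg.Agent.Fusion.WeaklyNormalLeast

/-!
A normal subsystem of the normalizer system inside a normal subsystem.
-/

set_option autoImplicit false
set_option linter.unusedSectionVars false
set_option linter.style.haveILetI false
set_option maxHeartbeats 400000

namespace Cfsg.Lib.Fusion.Balance

open Cfsg Cfsg.FusionSystem Cfsg.Lib.Fusion Cfsg.Lib.Fusion.Product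

universe u

variable {Ω : Type u} [Group Ω] {S T X : Subgroup Ω} {F : FusionSystem S} {E : FusionSystem T}
  {p : ℕ} [Finite S] [Fact p.Prime]

/-- The maps with an inner extension stabilizing `X`. -/
def InnerExt (F : FusionSystem S) (E : FusionSystem T) (p : ℕ) (X P : Subgroup Ω)
    (f : Ω → Ω) : Prop :=
  ∃ g, InnerGen F E p (P ⊔ X) g ∧ (∀ x ∈ P, g x = f x) ∧ img X g = X

/-- Such a map is a map of the normalizer system of the product. -/
theorem InnerExt.isMap (hD : Setup F E p) (hX : X ≤ S) {P : Subgroup Ω} {f : Ω → Ω}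
    (h : InnerExt F E p X P f) (hP : P ≤ normalizerIn S X)
    (hfP : ∀ x ∈ P, f x ∈ normalizerIn S X) :
    IsMap (normalizerSystem (prodSys hD) hX) P f := by
  obtain ⟨g, hg, hge, hgX⟩ := h
  have hm : IsMap (prodSys hD) (P ⊔ X) g := (isMap_prodSys hD).mpr ⟨1, hg.gen hD⟩
  exact (isMap_of_isNormalizerSystem (isNormalizerSystem_normalizerSystem hX)).mpr
    ⟨hP, hfP, (hm.mono le_sup_left).congr fun x hx => (hge x hx).symm, g, hm, hge, hgX⟩

/-- The automorphisms of order prime to `p` of the normalizer system of the product have inner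
extensions. -/
theorem innerExt_of_coprime (hD : Setup F E p) (hX : X ≤ S) {Q : Subgroup Ω} {β : MulAut Q}
    (hQ : Q ≤ normalizerIn S X) (hβ : β ∈ (normalizerSystem (prodSys hD) hX).autGroup Q)
    (hcop : (orderOf β).Coprime p) : InnerExt F E p X Q (autFun β) := by
  obtain ⟨-, -, -, g, hg, hge, hgX⟩ :=
    (isMap_of_isNormalizerSystem (isNormalizerSystem_normalizerSystem hX)).mp
      ((isMap_autFun hQ).mpr hβ)
  have hB : Q ⊔ X ≤ S := sup_le (hQ.trans inf_le_left) hX
  haveI := finite_of_le hB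
  obtain ⟨μ, hμ, eμ⟩ := hg.exists_aut (by
    rw [hg.img_sup, img_congr hge, img_autFun, hgX])
  obtain ⟨e, he, hee⟩ := NormCent.exists_coprime_agree hB le_sup_left
    (fun x hx => (eμ x (Subgroup.mem_sup_left hx)).trans (hge x hx)) hcop
  have hst : ∀ x ∈ X, autFun μ x ∈ X := fun x hx => by
    rw [eμ x (Subgroup.mem_sup_right hx), ← hgX]
    exact IsMap.apply_mem_img hx
  have hpow : ∀ n : ℕ, ∀ x ∈ X, autFun (μ ^ n) x ∈ X := by
    intro n
    induction n with
    | zero => intro x hx; rwa [pow_zero, autFun_one (Subgroup.mem_sup_right hx)]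
    | succ n ih =>
      intro x hx
      rw [pow_succ, autFun_mul _ _ (Subgroup.mem_sup_right hx)]
      exact ih _ (hst x hx)
  refine ⟨autFun (μ ^ e), (gen_one_iff hD).mp (coprime_label hD hB (pow_mem hμ e) he),
    fun x hx => hee x hx, ?_⟩
  haveI := finite_of_le hX
  exact img_eq_of_apply ((isMap_autFun hB).mpr (pow_mem hμ e)) le_sup_right (hpow e)

/-- Such maps are carried by the maps of the normalizer system to such maps. -/
theorem InnerExt.conj_map (hD : Setup F E p) (hX : X ≤ S) {R Q : Subgroup Ω} {h f g : Ω → Ω}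
    (hh : IsMap F (R ⊔ X) h) (hhX : img X h = X) (hf : InnerExt F E p X Q f) (hQR : Q ≤ R)
    (hfR : ∀ x ∈ Q, f x ∈ R) (hg : ∀ x ∈ Q, g (h x) = h (f x)) :
    InnerExt F E p X (img Q h) g := by
  obtain ⟨π, hπ, hπe, hπX⟩ := hf
  obtain ⟨k, hk, -, hkl, -⟩ := hh.exists_inv
  have hle : Q ⊔ X ≤ R ⊔ X := sup_le_sup_right hQR X
  have hπm := hπ.isMap hD
  have hπR : ∀ x ∈ Q ⊔ X, π x ∈ R ⊔ X := by
    refine IsMap.img_le_iff.mp ?_
    rw [hπm.img_sup, hπX]
    exact sup_le_sup_right (IsMap.img_le_iff.mpr fun x hx => hπe x hx ▸ hfR x hx) X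
  have h1 := InnerGen.conj_map hD hh hπ hle hπR (g := fun y => h (π (k y)))
    fun x hx => by rw [hkl x (hle hx)]
  rw [(hh.mono hle).img_sup, hhX] at h1
  refine ⟨_, h1, fun y hy => ?_, ?_⟩
  · obtain ⟨x, hx, rfl⟩ := (hh.mono (hQR.trans le_sup_left)).mem_img.mp hy
    rw [hkl x (Subgroup.mem_sup_left (hQR hx)), hπe x hx, hg x hx]
  · haveI := finite_of_le hX
    refine img_eq_of_apply (h1.isMap hD) le_sup_right fun y hy => ?_
    obtain ⟨x, hx, rfl⟩ := (hh.mono le_sup_right).mem_img.mp (hhX.ge hy)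
    rw [hkl x (Subgroup.mem_sup_right hx), ← hhX]
    exact IsMap.apply_mem_img (hπX ▸ IsMap.apply_mem_img hx)

set_option maxHeartbeats 1600000 in
/-- The normalizer system has a normal subsystem on `N_T(X)` inside the normal subsystem. -/
theorem exists_normal_normalizer (hS : IsPGroup p S) (hE : E.IsNormalIn F p)
    (hX : F.IsFullyNormalized X) :
    ∀ {N : FusionSystem (normalizerIn S X)}, F.IsNormalizerSystem X N →
      ∃ M : FusionSystem (normalizerIn T X), M.IsNormalIn N p ∧ M.IsSubsystemOf E := by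
  have hD : Setup F E p := ⟨hS, hE⟩
  have hXS := hX.1
  haveI := finite_of_le hXS
  haveI := finite_of_le hD.le
  set W := normalizerIn S X
  set V := normalizerIn T X
  have hWS : W ≤ S := inf_le_left
  have hVW : V ≤ W := inf_le_inf_right _ hD.le
  have hVT : V ≤ T := inf_le_left
  intro N hN
  haveI : Finite W := finite_of_le hWS
  haveI : Finite V := finite_of_le hVT
  have hWp : IsPGroup p W := hS.of_injective _ (Subgroup.inclusion_injective hWS)
  have hVp : IsPGroup p V := hS.of_injective _ (Subgroup.inclusion_injective (hVW.trans hWS))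
  have hXW : X ≤ W := le_normalizerIn hXS
  have hNm : ∀ {P : Subgroup Ω} {f : Ω → Ω}, IsMap N P f ↔
      P ≤ W ∧ (∀ x ∈ P, f x ∈ W) ∧ IsMap F P f ∧ ExtendsWith F X P f :=
    fun {P f} => isMap_of_isNormalizerSystem hN
  have hNs : N.IsSaturated p := by
    have e : N = normalizerSystem F hXS :=
      fusionSystem_ext fun P => (hN P).trans (isNormalizerSystem_normalizerSystem hXS P).symm
    rw [e]
    exact saturated_normalizerSystem hS hD.sat hX
  have hXN : N.IsNormal X := by
    refine isNormal_of_extendsWith hXW fun P f hf => ?_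
    obtain ⟨hP, hfW, -, k, hk, hkf, hkX⟩ := hNm.mp hf
    refine ⟨k, hNm.mpr ⟨sup_le hP hXW, IsMap.img_le_iff.mp ?_, hk, ?_⟩, hkf, hkX⟩
    · rw [hk.img_sup, hkX]
      exact sup_le (IsMap.img_le_iff.mpr fun x hx => hkf x hx ▸ hfW x hx) hXW
    · exact ⟨k, by rwa [sup_assoc, sup_idem], fun _ _ => rfl, hkX⟩
  -- the normalizer system in the product
  have hXP : (prodSys hD).IsFullyNormalized X := ⟨hXS, fun Q hQ => hX.2 Q (by
    obtain ⟨f, hf, rfl⟩ := isConj_iff.mp hQ
    exact isConj_iff.mpr ⟨f, CharSub.isMap_of_sub (prodSys_sub hD) hf, rfl⟩)⟩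
  set N₁ := normalizerSystem (prodSys hD) hXS
  have hN₁s : N₁.IsSaturated p := saturated_normalizerSystem hS (saturated_prodSys hD) hXP
  have hN₁P : N₁.IsSubsystemOf (prodSys hD) := fun P φ hφ => (mem_normalizerHom_iff.mp hφ).2.2.1
  have hN₁h : N₁.hyperfocalSubgroup p ≤ V := fun x hx =>
    ⟨hyperfocal_prodSys_le hD (PPower.hyperfocal_le_of_sub hN₁P hWS hx),
      (hyperfocalSubgroup_le N₁ p hx).2⟩
  obtain ⟨M, hMs, hMi⟩ := PDeg.exists_system _ rfl hWp hN₁s hVW hN₁h
  -- inside the subsystem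
  have hME : M.IsSubsystemOf E := by
    have key : ∀ Q, M.IsFullyNormalized Q → M.autGroup Q ≤ E.autGroup Q := fun Q hQn =>
      PPower.autGroup_le_of hVp le_rfl hMs hQn
        ((autInducedBy_mono hVT).trans (autInducedBy_le (hQn.1.trans hVT))) fun β hβ hcop =>
        PPower.coprime_mem_autGroup (index_prodSys hD) (hQn.1.trans hVT)
          (PPower.autGroup_le_of_sub hN₁P (hQn.1.trans hVW) hWS
            (PPower.autGroup_le_of_sub hMi.1 hQn.1 hVW hβ)) hcop
    have hcls : IsMapClass M (IsMap E) :=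
      { conj := fun P g hP hg => isMap_conj (hP.trans hVT) (hVT hg)
        congr := fun P f f' _ e h => h.congr e
        mono := fun P R f _ hR h => h.mono hR
        comp := fun P Q f g _ _ hfQ h h' => h.comp h' hfQ
        inv := fun P f g _ hg hl h => by
          obtain ⟨k, hk, -, hkl, -⟩ := h.exists_inv
          refine hk.congr fun y hy => ?_
          obtain ⟨x, hx, rfl⟩ := h.mem_img.mp hy
          rw [hl x hx, hkl x hx] }
    intro P φ hφ
    refine IsMap.mem_toFun' (alperin_radical hVp hMs hcls (fun f hf => ?_)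
      (fun Q _ hQn _ _ _ α hα => (isMap_autFun (hQn.1.trans hVT)).mpr (key Q hQn hα))
      (isMap_of_mem hφ))
    obtain ⟨α, hα, e⟩ := hf.exists_aut (Subgroup.eq_of_le_of_card_ge hf.img_le hf.card_img.ge)
    exact ((isMap_autFun hVT).mpr (key V ⟨le_rfl, fun Q hQ => by
      obtain ⟨g, hg, rfl⟩ := isConj_iff.mp hQ
      rw [Subgroup.eq_of_le_of_card_ge hg.img_le hg.card_img.ge]⟩ hα)).congr
      fun x hx => (e x hx).symm
  have hscV : N.StronglyClosed V := stronglyClosed_of_apply hVW fun P f hf x hx hxV => by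
    obtain ⟨-, hfW, hfm, -⟩ := hNm.mp hf
    exact ⟨stronglyClosed_apply hD.sc hfm hx hxV.1, (hfW x hx).2⟩
  have hMN : M.IsSubsystemOf N := fun P φ hφ => by
    obtain ⟨hP, hv, hm, k, hk, hkf, hkX⟩ := mem_normalizerHom_iff.mp (hMi.1 P hφ)
    exact (hN P).ge (mem_normalizerHom_iff.mpr ⟨hP, hv, prodSys_sub hD P hm, k,
      CharSub.isMap_of_sub (prodSys_sub hD) hk, hkf, hkX⟩)
  -- transport
  have htrans : ∀ α ∈ N.autGroup V, ∀ (P : Subgroup Ω) (f : Ω → Ω), IsMap M P f →
      IsMap M (img P (autFun α)) (fun y => autFun α (f (autFun α⁻¹ y))) := by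
    intro α hα P f hf
    obtain ⟨-, -, -, n, hn, hne, hnX⟩ := hNm.mp ((isMap_autFun hVW).mpr hα)
    refine transport_of_coprime hWp hVW hMs hα (fun Q hQ β hβ hcop => ?_) hf
    set hm := ((isMap_autFun (F := N) hVW).mpr hα).mono hQ
    set β' := MulAut.congr (hm.equiv rfl) β
    have hi : img Q n = img Q (autFun α) := img_congr fun x hx => hne x (hQ hx)
    have hQW : img Q (autFun α) ≤ W := hm.img_le
    have hie : InnerExt F E p X (img Q n) (autFun β') := by
      refine (innerExt_of_coprime hD hXS (hQ.trans hVW)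
        (PPower.autGroup_le_of_sub hMi.1 hQ hVW hβ) hcop).conj_map hD hXS hn hnX hQ
        (fun x hx => hQ (autFun_mem β hx)) fun x hx => ?_
      rw [hne x (hQ hx), hne _ (hQ (autFun_mem β hx))]
      exact congr_equiv_spec hm rfl β hx
    rw [hi] at hie
    refine PPower.coprime_mem_autGroup hMi (IsMap.img_le_iff.mpr fun x hx => autFun_mem α (hQ hx))
      ((isMap_autFun hQW).mp (hie.isMap hD hXS hQW fun y hy => hQW (autFun_mem β' hy))) ?_
    rwa [show orderOf β' = orderOf β from orderOf_injective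
      (MulAut.congr (hm.equiv rfl)).toMonoidHom (MulAut.congr (hm.equiv rfl)).injective β]
  -- Frattini
  let Φ : Subgroup Ω → (Ω → Ω) → Prop := fun P f => ∀ R, R ≤ P → R ≤ V →
    ∃ α ∈ N.autGroup V, ∃ f₀, IsMap M R f₀ ∧ ∀ x ∈ R, f x = autFun α (f₀ x)
  have hcls : IsMapClass N Φ :=
    { conj := fun P g hP hg R _ hR => by
        have hgn := normalizes_of_stronglyClosed hscV hg
        exact ⟨conjAut V g hgn, autInducedBy_le hVW (conjAut_mem_autInducedBy hgn hg), id,
          isMap_id hR, fun x hx => by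
            show g * x * g⁻¹ = autFun (conjAut V g hgn) x
            rw [autFun_apply_mem _ (hR hx), conjAut_apply]⟩
      congr := fun P f f' _ e h R hR hRT => by
        obtain ⟨α, hα, f₀, hf₀, he⟩ := h R hR hRT
        exact ⟨α, hα, f₀, hf₀, fun x hx => (e x (hR hx)).trans (he x hx)⟩
      mono := fun P R f _ hR h R' hR' => h R' (hR'.trans hR)
      comp := fun P Q f g hf _ hfQ h h' R hR hRT => by
        obtain ⟨α, hα, f₀, hf₀, he⟩ := h R hR hRT
        obtain ⟨β, hβ, g₀, hg₀, he'⟩ := h' (img R f)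
          (IsMap.img_le_iff.mpr fun x hx => hfQ x (hR hx))
          (IsMap.img_le_iff.mpr fun x hx => stronglyClosed_apply hscV hf (hR hx) (hRT hx))
        have ht := htrans α⁻¹ (Subgroup.inv_mem _ hα) _ _ hg₀
        have hmem : ∀ x ∈ R, f₀ x ∈ img (img R f) (autFun α⁻¹) := fun x hx => by
          rw [← autFun_inv_apply' α (hf₀.mem_S hx), ← he x hx]
          exact IsMap.apply_mem_img (IsMap.apply_mem_img hx)
        refine ⟨β * α, Subgroup.mul_mem _ hβ hα, _, hf₀.comp ht hmem, fun x hx => ?_⟩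
        show g (f x) = autFun (β * α) (autFun α⁻¹ (g₀ (autFun α⁻¹⁻¹ (f₀ x))))
        have hy : g₀ (f x) ∈ V := hg₀.mem_S (IsMap.apply_mem_img hx)
        rw [inv_inv, ← he x hx, ← autFun_mul _ _ hy, mul_inv_cancel_right,
          he' _ (IsMap.apply_mem_img hx)]
      inv := fun P f g hf hg hl h R' hR' hR'T => by
        have hgm := hg.mono hR'
        have hRP : img R' g ≤ P := IsMap.img_le_iff.mpr fun y hy => by
          obtain ⟨x, hx, rfl⟩ := hf.mem_img.mp (hR' hy)
          rwa [hl x hx]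
        have hRT : img R' g ≤ V :=
          IsMap.img_le_iff.mpr fun y hy => stronglyClosed_apply hscV hgm hy (hR'T hy)
        obtain ⟨α, hα, f₀, hf₀, he⟩ := h (img R' g) hRP hRT
        obtain ⟨k, hk, -, hkl, -⟩ := hf₀.exists_inv
        have ht := htrans α hα _ _ hk
        have hfg : ∀ y ∈ R', f (g y) = y := fun y hy => by
          obtain ⟨x, hx, rfl⟩ := hf.mem_img.mp (hR' hy)
          rw [hl x hx]
        have hsub : R' ≤ img (img (img R' g) f₀) (autFun α) := fun y hy => by
          rw [← hfg y hy, he _ (IsMap.apply_mem_img hy)]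
          exact IsMap.apply_mem_img (IsMap.apply_mem_img (IsMap.apply_mem_img hy))
        refine ⟨α⁻¹, Subgroup.inv_mem _ hα, _, ht.mono hsub, fun y hy => ?_⟩
        show g y = autFun α⁻¹ (autFun α (k (autFun α⁻¹ y)))
        have h1 : autFun α⁻¹ y = f₀ (g y) := by
          conv_lhs => rw [← hfg y hy, he _ (IsMap.apply_mem_img hy)]
          exact autFun_inv_apply' α (hf₀.mem_S (IsMap.apply_mem_img hy))
        rw [h1, hkl _ (IsMap.apply_mem_img hy),
          autFun_inv_apply' α (hRT (IsMap.apply_mem_img hy))] }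
  have htop : ∀ (R : Subgroup Ω) (α : MulAut R), R ≤ W → V ≤ R → α ∈ N.autGroup R →
      Φ R (autFun α) := by
    intro R α hRW hVR hα R' hR' hR'V
    haveI := finite_of_le hRW
    have hm := (isMap_autFun hRW).mpr hα
    obtain ⟨β, hβ, e⟩ := (hm.mono hVR).exists_aut (img_eq_of_apply hm hVR fun x hx =>
      stronglyClosed_apply hscV hm (hVR hx) hx)
    exact ⟨β, hβ, id, isMap_id hR'V, fun x hx => (e x (hR'V hx)).symm⟩
  have hfrat : ∀ {P : Subgroup Ω} {f : Ω → Ω}, IsMap N P f → Φ P f := by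
    intro P f hf
    refine alperin_radical hWp hNs hcls (fun g hg => ?_) (fun R _ hRn hRc hRr hIH α hα => ?_) hf
    · obtain ⟨α, hα, e⟩ := hg.exists_aut (Subgroup.eq_of_le_of_card_ge hg.img_le hg.card_img.ge)
      exact hcls.congr W _ g ((isMap_autFun le_rfl).mpr hα) (fun x hx => (e x hx).symm)
        (htop W α le_rfl hVW hα)
    have hRW := hRn.1
    by_cases hVR : V ≤ R
    · exact htop R α hRW hVR hα
    haveI := finite_of_le hRW
    have hXR : X ≤ R := le_radical_of_isNormal hWp hXN hRc hRr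
    have hRS : R ≤ S := hRW.trans hWS
    have hNX : ∀ a ∈ N.autGroup R, IsMap F (R ⊔ X) (autFun a) ∧ img X (autFun a) = X := by
      intro a ha
      obtain ⟨-, -, -, k, hk, hkf, hkX⟩ := hNm.mp ((isMap_autFun hRW).mpr ha)
      refine ⟨?_, ?_⟩
      · rw [sup_eq_left.mpr hXR] at hk ⊢
        exact hk.congr fun x hx => (hkf x hx).symm
      · rw [← img_congr fun x hx => hkf x (hXR hx), hkX]
    -- the normal group
    let B : Subgroup (MulAut R) :=
      { carrier := {β | β ∈ N.autGroup R ∧ InnerGen F E p R (autFun β)}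
        one_mem' := ⟨Subgroup.one_mem _, (InnerGen.id' hRS).congr fun x hx => autFun_one hx⟩
        mul_mem' := by
          rintro a b ⟨ha, ha'⟩ ⟨hb, hb'⟩
          exact ⟨Subgroup.mul_mem _ ha hb, (InnerGen.comp _ _ _ _ hb' ha'
            fun x hx => autFun_mem b hx).congr fun x hx => autFun_mul _ _ hx⟩
        inv_mem' := by
          rintro a ⟨ha, ha'⟩
          obtain ⟨g, hg, eg⟩ := ha'.exists_inv hD
          rw [img_autFun] at hg
          refine ⟨Subgroup.inv_mem _ ha, hg.congr fun x hx => ?_⟩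
          have := eg _ (autFun_mem a⁻¹ hx)
          rw [autFun_inv_apply a hx] at this
          exact this.symm }
    have hlt : R < R ⊔ V := lt_of_le_of_ne le_sup_left fun h => hVR (h ▸ le_sup_right)
    obtain ⟨v, hv, hvR⟩ := SetLike.exists_of_lt (lt_inf_normalizer hWp hlt (sup_le hRW hVW))
    have hRV : R ≤ Subgroup.normalizer (V : Set Ω) := fun x hx =>
      normalizes_of_stronglyClosed hscV (hRW hx)
    have hv1 : v ∈ ((R ⊔ V : Subgroup Ω) : Set Ω) := hv.1
    rw [Subgroup.coe_mul_of_left_le_normalizer_right R V hRV] at hv1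
    obtain ⟨q, hq, t, ht, rfl⟩ := hv1
    have htR : t ∉ R := fun h => hvR (R.mul_mem hq h)
    have htn : t ∈ Subgroup.normalizer (R : Set Ω) := by
      have := Subgroup.mul_mem _ (Subgroup.inv_mem _ (Subgroup.le_normalizer hq)) hv.2
      rwa [inv_mul_cancel_left] at this
    refine site_split hWp hNs hcls hRn (B := B) (fun _ h => h.1) (fun a ha β hβ => ?_)
      (fun β hβ hcop => ?_) (hVW ht) htn htR
      ⟨autInducedBy_le hRW (conjAut_mem_autInducedBy htn (hVW ht)),
        (InnerGen.conj R t hRS (hVT ht)).congr fun x hx => by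
          rw [autFun_apply_mem _ hx, conjAut_apply]⟩ hIH α hα
    · refine ⟨Subgroup.mul_mem _ (Subgroup.mul_mem _ ha hβ.1) (Subgroup.inv_mem _ ha), ?_⟩
      have hh := (hNX a ha).1
      rw [sup_eq_left.mpr hXR] at hh
      have h1 := InnerGen.conj_map hD hh hβ.2 le_rfl (fun x hx => autFun_mem β hx)
        (g := autFun (a * β * a⁻¹)) fun x hx => by
          rw [← autFun_mul _ a hx, inv_mul_cancel_right, autFun_mul _ _ hx]
      rwa [img_autFun] at h1
    · intro R' hR' hR'V
      refine ⟨1, Subgroup.one_mem _, autFun β, ?_, fun x hx => ?_⟩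
      · set U := R ⊓ V
        have hm := (isMap_autFun hRW).mpr hβ.1
        obtain ⟨b, hb, eb, hd⟩ := exists_restrict hRW hβ.1 (inf_le_left : U ≤ R)
          fun x hx => ⟨autFun_mem β hx.1, stronglyClosed_apply hscV hm hx.1 hx.2⟩
        have hUW : U ≤ W := inf_le_left.trans hRW
        have hie : InnerExt F E p X U (autFun b) := ⟨autFun β,
          hβ.2.mono (sup_le inf_le_left hXR), fun x hx => (eb x hx).symm, (hNX β hβ.1).2⟩
        have hbM := PPower.coprime_mem_autGroup hMi inf_le_right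
          ((isMap_autFun hUW).mp (hie.isMap hD hXS hUW fun y hy => hUW (autFun_mem b hy)))
          (hcop.coprime_dvd_left hd)
        exact (((isMap_autFun inf_le_right).mpr hbM).mono (le_inf hR' hR'V)).congr
          fun x hx => (eb x ⟨hR' hx, hR'V hx⟩).symm
      · rw [autFun_one]
        rw [autFun_apply_mem β (hR' hx)]
        have hm := (isMap_autFun hRW).mpr hβ.1
        have := stronglyClosed_apply hscV hm (hR' hx) (hR'V hx)
        rwa [autFun_apply_mem β (hR' hx)] at this
  -- weakly normal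
  have hw : M.IsWeaklyNormalIn N p := by
    refine ⟨hMs, hNs, hMN, hscV, fun P hP φ hφ α hα => ?_, fun P hP φ hφ => ?_⟩
    · have himg : img P (autFun α) = (P.subgroupOf V).map (V.subtype.comp α.toMonoidHom) := by
        refine le_antisymm (IsMap.img_le_iff.mpr fun x hx => ?_) ?_
        · rw [autFun_apply_mem _ (hP hx)]
          exact ⟨⟨x, hP hx⟩, hx, rfl⟩
        · rintro _ ⟨x, hx, rfl⟩
          rw [show V.subtype.comp α.toMonoidHom x = autFun α x from (autFun_apply α x).symm]
          exact IsMap.apply_mem_img hx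
      obtain ⟨χ, hχ, e⟩ := htrans α hα _ _ (isMap_of_mem hφ)
      rw [← himg]
      refine ⟨χ, hχ, fun x hφx hαx => ?_⟩
      rw [e]
      show autFun α (toFun' φ (autFun α⁻¹ ((α ⟨x, hP x.2⟩ : V) : Ω))) = _
      rw [← autFun_apply α ⟨x, hP x.2⟩, autFun_inv_apply' α (hP x.2), toFun'_apply φ x]
      exact autFun_apply α ⟨φ x, hφx⟩
    · obtain ⟨α, hα, f₀, ⟨φ₀, hφ₀, e₀⟩, he⟩ := hfrat (isMap_of_mem hφ) P le_rfl hP
      refine ⟨α, hα, φ₀, hφ₀, fun x hx => ?_⟩
      rw [← autFun_apply α ⟨φ₀ x, hx⟩, ← toFun'_apply φ x, he x x.2]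
      show autFun α (f₀ x) = autFun α (φ₀ x)
      rw [e₀ x]
  have hspec := PrimeIndex.residual_spec hVp hMs
  exact ⟨_, WeaklyNormal.residual_normal hWp hw hspec, fun P φ hφ => hME P (hspec.2.1.1 P hφ)⟩

end Cfsg.Lib.Fusion.Balance
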