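import Cfsg.Agent.Fusion.NormalCriteria
import Cfsg.Agent.Fusion.NormalSubgroupSystem
import Cfsg.Agent.Transfer.Basic

/-!
A normal group of automorphisms at a site reduces a map property to larger subgroups.
-/

set_option autoImplicit false
set_option linter.unusedSectionVars false
set_option linter.style.haveILetI false

namespace Cfsg.Lib.Fusion.Balance

open Cfsg Cfsg.FusionSystem Cfsg.Lib.Fusion

universe u

variable {Ω : Type u} [Group Ω] {S : Subgroup Ω} {F : FusionSystem S} {p : ℕ}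

/-- The property holds at a site when it holds on larger subgroups and on the elements of order
prime to `p` of a normal group of automorphisms meeting `Aut_S(R)` outside the inner ones. -/
theorem site_split [Finite S] [Fact p.Prime] (hS : IsPGroup p S) (hF : F.IsSaturated p)
    {Φ : Subgroup Ω → (Ω → Ω) → Prop} (hΦ : IsMapClass F Φ) {R : Subgroup Ω}
    (hR : F.IsFullyNormalized R) {B : Subgroup (MulAut R)} (hB : B ≤ F.autGroup R)
    (hBn : ∀ α ∈ F.autGroup R, ∀ β ∈ B, α * β * α⁻¹ ∈ B)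
    (hcop : ∀ β ∈ B, (orderOf β).Coprime p → Φ R (autFun β))
    {t : Ω} (ht : t ∈ S) (htn : t ∈ Subgroup.normalizer (R : Set Ω)) (htR : t ∉ R)
    (htB : conjAut R t htn ∈ B)
    (hbig : ∀ (X : Subgroup Ω) (f : Ω → Ω), Nat.card R < Nat.card X → IsMap F X f → Φ X f) :
    ∀ α ∈ F.autGroup R, Φ R (autFun α) := by
  have hRS := hR.1
  haveI := finite_of_le hRS
  haveI : Finite (MulAut R) := Finite.of_injective
    (fun f : MulAut R => (f : R → R)) DFunLike.coe_injective
  obtain ⟨-, hfa, hrec⟩ := fullyNormalized_props hS hF hR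
  set A := F.autGroup R
  obtain ⟨-, V, hV⟩ := hfa
  set K : Subgroup A := B.subgroupOf A
  haveI : K.Normal := ⟨fun b hb a => hBn a a.2 b hb⟩
  set good := goodAut F Φ hΦ R hRS
  have hmax : IsMaxPIn p ((V : Subgroup A) ⊓ K) K := isMaxPIn_inf_normal V K
  obtain ⟨W, hW⟩ := (sylow_subgroupOf_iff hmax.1 hmax.2.1).mpr hmax
  have hK : ∀ b ∈ K, (b : MulAut R) ∈ good := by
    obtain ⟨e, he⟩ := Cfsg.Lib.Transfer.exists_index_pResidual (p := p) (G := K)
    have hle : (⊤ : Subgroup K) ≤ good.comap (A.subtype.comp K.subtype) := by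
      rw [← Cfsg.Lib.Transfer.sup_sylow_eq_top he W, hW]
      refine sup_le ((Subgroup.closure_le _).mpr fun x hx => ?_) fun x hx => ?_
      · refine ⟨hB x.2, hcop _ x.2 ?_⟩
        show (orderOf ((x : A) : MulAut R)).Coprime p
        rw [Subgroup.orderOf_coe, Subgroup.orderOf_coe]
        exact hx
      · have h1 : (x : A) ∈ (V : Subgroup A) := hx.1
        rw [hV] at h1
        exact autInducedBy_le_good hΦ hRS h1
    exact fun b hb => hle (Subgroup.mem_top (⟨b, hb⟩ : K))
  intro α hα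
  set a : A := ⟨α, hα⟩
  obtain ⟨k, hk, hkV⟩ := hmax.exists_conj_le
    (U := ((V : Subgroup A) ⊓ K).map (MulAut.conj a).toMonoidHom)
    (map_conj_le fun u hu => ‹K.Normal›.conj_mem u hu.2 a) (hmax.2.1.map _)
  have hc : (⟨conjAut R t htn, hB htB⟩ : A) ∈ (V : Subgroup A) ⊓ K :=
    ⟨hV ▸ (conjAut_mem_autInducedBy htn ht : _ ∈ autInducedBy S R), htB⟩
  have h1 : k * (a * ⟨conjAut R t htn, hB htB⟩ * a⁻¹) * k⁻¹ ∈ (V : Subgroup A) :=
    (hkV _ ⟨_, hc, rfl⟩).1
  rw [hV] at h1
  obtain ⟨s, hs, es⟩ := mem_autInducedBy.mp h1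
  set γ : A := k * a
  have htX : t ∈ extSub S R (autFun (γ : MulAut R)) := by
    refine mem_extSub.mpr ⟨ht, htn, s, hs, fun x hx => ?_⟩
    have h := es ⟨autFun (γ : MulAut R) x, autFun_mem _ hx⟩
    rw [← autFun_apply] at h
    rw [← h]
    have e : A.subtype (k * (a * ⟨conjAut R t htn, hB htB⟩ * a⁻¹) * k⁻¹) =
        (γ : MulAut R) * conjAut R t htn * (γ : MulAut R)⁻¹ := by
      simp only [γ, Subgroup.coe_subtype, Subgroup.coe_mul, Subgroup.coe_inv]
      group
    rw [e, autFun_mul _ _ (autFun_mem _ hx), autFun_inv_apply' _ hx, autFun_mul _ _ hx,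
      autFun_apply_mem (conjAut R t htn) hx, conjAut_apply]
  have hγm : IsMap F R (autFun (γ : MulAut R)) := (isMap_autFun hRS).mpr γ.2
  obtain ⟨g, hg, hge⟩ := receptive_extend hrec hγm (img_autFun _)
  have hRX := le_extSub hγm
  have hlt : Nat.card R < Nat.card (extSub S R (autFun (γ : MulAut R))) := by
    haveI := finite_of_le (hg.le)
    exact lt_of_le_of_ne (Subgroup.card_le_of_le hRX)
      fun h => htR (Subgroup.eq_of_le_of_card_ge hRX h.ge ▸ htX)
  have hγ : (γ : MulAut R) ∈ good := ⟨γ.2, hΦ.congr R _ _ (hg.mono hRX)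
    (fun x hx => (hge x hx).symm) (hΦ.mono _ R g hg hRX (hbig _ g hlt hg))⟩
  have h := good.mul_mem (good.inv_mem (hK k hk)) hγ
  rw [show (k : MulAut R)⁻¹ * (γ : MulAut R) = α by simp [γ, a]] at h
  exact h.2

end Cfsg.Lib.Fusion.Balance
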